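import Mathlib
import Groth.Prelude.Def_BlowUp2

/-! Sections of a closed subscheme vanishing on a bigger one, extended by zero. -/

set_option autoImplicit false
set_option linter.style.haveILetI false
universe u

open CategoryTheory AlgebraicGeometry TopologicalSpace Opposite

namespace PtBlowLib

variable {X : Scheme.{u}} {J F : X.IdealSheafData} (h : J ≤ F)

theorem inclusion_preimage (O : X.Opens) :
    (Scheme.IdealSheafData.inclusion h) ⁻¹ᵁ (J.subschemeι ⁻¹ᵁ O) = F.subschemeι ⁻¹ᵁ O := by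
  rw [← Scheme.Hom.comp_preimage, Scheme.IdealSheafData.inclusion_subschemeι]

/-- Restriction from the big subscheme to the small one, over an open of the ambient scheme. -/
noncomputable def toSmall (O : X.Opens) : Γ(J.subscheme, J.subschemeι ⁻¹ᵁ O) →+* Γ(F.subscheme, F.subschemeι ⁻¹ᵁ O) :=
  ((Scheme.IdealSheafData.inclusion h).appLE (J.subschemeι ⁻¹ᵁ O) (F.subschemeι ⁻¹ᵁ O) (inclusion_preimage h O).ge).hom

theorem toSmall_res {O O' : X.Opens} (i : O' ≤ O) (z : Γ(J.subscheme, J.subschemeι ⁻¹ᵁ O)) :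
    toSmall h O' ((J.subscheme.presheaf.map (homOfLE (J.subschemeι.preimage_mono i)).op).hom z) =
      (F.subscheme.presheaf.map (homOfLE (F.subschemeι.preimage_mono i)).op).hom (toSmall h O z) := by
  simp only [toSmall, ← CommRingCat.comp_apply, Scheme.Hom.map_appLE, Scheme.Hom.appLE_map]

theorem toSmall_app (O : X.Opens) (a : Γ(X, O)) :
    toSmall h O ((J.subschemeι.app O).hom a) = (F.subschemeι.app O).hom a := by
  have key : ∀ (φ : F.subscheme ⟶ X) (e : φ = F.subschemeι) (le : F.subschemeι ⁻¹ᵁ O ≤ φ ⁻¹ᵁ O),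
      φ.appLE O (F.subschemeι ⁻¹ᵁ O) le = F.subschemeι.app O := by
    rintro φ rfl le
    exact (Scheme.Hom.app_eq_appLE F.subschemeι).symm
  have h1 := key _ (Scheme.IdealSheafData.inclusion_subschemeι h) (by
    rw [Scheme.IdealSheafData.inclusion_subschemeι])
  rw [← h1, toSmall, ← CommRingCat.comp_apply, Scheme.Hom.app_eq_appLE, Scheme.Hom.appLE_comp_appLE]

/-- Where the two ideals agree the restriction is injective. -/
theorem eq_zero_of_toSmall {O : X.Opens} (heq : ∀ U : X.affineOpens, U.1 ≤ O → J.ideal U = F.ideal U)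
    (z : Γ(J.subscheme, J.subschemeι ⁻¹ᵁ O)) (hz : toSmall h O z = 0) : z = 0 := by
  refine J.subscheme.sheaf.eq_of_locally_eq' (fun p : {U : X.affineOpens // U.1 ≤ O} => J.subschemeι ⁻¹ᵁ p.1.1) _
    (fun p => homOfLE (J.subschemeι.preimage_mono p.2)) ?_ _ _ fun p => ?_
  · intro y hy
    obtain ⟨U, hU, hyU, hUO⟩ := exists_isAffineOpen_mem_and_subset (x := J.subschemeι y) (U := O) hy
    exact Opens.mem_iSup.2 ⟨⟨⟨U, hU⟩, hUO⟩, hyU⟩
  · obtain ⟨U, hUO⟩ := p
    change (J.subscheme.presheaf.map (homOfLE (J.subschemeι.preimage_mono hUO)).op).hom z =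
      (J.subscheme.presheaf.map (homOfLE (J.subschemeι.preimage_mono hUO)).op).hom 0
    rw [map_zero]
    obtain ⟨a, ha⟩ := J.subschemeι_app_surjective U
      ((J.subscheme.presheaf.map (homOfLE (J.subschemeι.preimage_mono hUO)).op).hom z)
    have h0 : (F.subschemeι.app U.1).hom a = 0 := by
      rw [← toSmall_app h, ha, toSmall_res h hUO, hz, map_zero]
    have hm : a ∈ J.ideal U := by
      rw [heq U hUO, ← F.ker_subschemeι_app U]
      exact h0
    rw [← J.ker_subschemeι_app U] at hm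
    rw [← ha]
    exact hm

variable {V : X.Opens} {T : Set X} (hT : IsClosed T) (hTV : T ⊆ V)
  (heq : ∀ U : X.affineOpens, Disjoint (U.1 : Set X) T → J.ideal U = F.ideal U)

include hTV heq in
/-- A section on the small open killed in the small subscheme extends uniquely by zero. -/
theorem existsUnique_extend (hT : IsClosed T) (z : Γ(J.subscheme, J.subschemeι ⁻¹ᵁ V)) (hz : toSmall h V z = 0) :
    ∃! w : Γ(J.subscheme, J.subschemeι ⁻¹ᵁ ⊤),
      (J.subscheme.presheaf.map (homOfLE (J.subschemeι.preimage_mono le_top)).op).hom w = z ∧ toSmall h ⊤ w = 0 := by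
  let W : X.Opens := ⟨Tᶜ, hT.isOpen_compl⟩
  let O : Bool → X.Opens := fun b => if b then V else W
  have hW : ∀ {O' : X.Opens}, O' ≤ W → ∀ U : X.affineOpens, U.1 ≤ O' → J.ideal U = F.ideal U := fun hO U hU =>
    heq U (Set.disjoint_left.2 fun x hx hxT => hO (hU hx) hxT)
  let sf : ∀ b : Bool, Γ(J.subscheme, J.subschemeι ⁻¹ᵁ O b) := fun b =>
    match b with
    | true => z
    | false => 0
  have hcov : J.subschemeι ⁻¹ᵁ (⊤ : X.Opens) ≤ ⨆ b, J.subschemeι ⁻¹ᵁ O b := fun y _ => by
    by_cases hy : J.subschemeι y ∈ T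
    · exact Opens.mem_iSup.2 ⟨true, hTV hy⟩
    · exact Opens.mem_iSup.2 ⟨false, hy⟩
  have hoff : (J.subscheme.presheaf.map (homOfLE (J.subschemeι.preimage_mono (inf_le_left : V ⊓ W ≤ V))).op).hom z = 0 :=
    eq_zero_of_toSmall h (hW inf_le_right) _ (by rw [toSmall_res h inf_le_left, hz, map_zero])
  have hcompat : TopCat.Presheaf.IsCompatible J.subscheme.sheaf.1 (fun b => J.subschemeι ⁻¹ᵁ O b) sf := by
    intro i j
    cases i <;> cases j
    · rfl
    · change (J.subscheme.presheaf.map _).hom (0 : Γ(J.subscheme, J.subschemeι ⁻¹ᵁ W)) = (J.subscheme.presheaf.map _).hom z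
      rw [map_zero]
      have := congrArg (J.subscheme.presheaf.map
        (homOfLE (le_of_eq (show J.subschemeι ⁻¹ᵁ W ⊓ J.subschemeι ⁻¹ᵁ V = J.subschemeι ⁻¹ᵁ (V ⊓ W) from inf_comm _ _))).op).hom hoff
      rw [map_zero, ← CommRingCat.comp_apply, ← Functor.map_comp] at this
      exact this.symm
    · change (J.subscheme.presheaf.map _).hom z = (J.subscheme.presheaf.map _).hom (0 : Γ(J.subscheme, J.subschemeι ⁻¹ᵁ W))
      rw [map_zero]
      exact hoff
    · rfl
  obtain ⟨w, hw, huniq⟩ := J.subscheme.sheaf.existsUnique_gluing' (fun b => J.subschemeι ⁻¹ᵁ O b) _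
    (fun b => homOfLE (J.subschemeι.preimage_mono le_top)) hcov sf hcompat
  refine ⟨w, ⟨hw true, ?_⟩, fun w' ⟨h1, h2⟩ => huniq w' fun b => ?_⟩
  · refine F.subscheme.sheaf.eq_of_locally_eq' (fun b => F.subschemeι ⁻¹ᵁ O b) _
      (fun b => homOfLE (F.subschemeι.preimage_mono le_top)) (fun y _ => ?_) _ _ fun b => ?_
    · by_cases hy : F.subschemeι y ∈ T
      · exact Opens.mem_iSup.2 ⟨true, hTV hy⟩
      · exact Opens.mem_iSup.2 ⟨false, hy⟩
    · change (F.subscheme.presheaf.map _).hom (toSmall h ⊤ w) = (F.subscheme.presheaf.map _).hom 0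
      rw [map_zero]
      refine ((toSmall_res h (le_top : O b ≤ ⊤) w).symm.trans ?_)
      refine (congrArg (toSmall h (O b)) (hw b)).trans ?_
      cases b
      · exact map_zero _
      · exact hz
  · cases b
    · refine eq_zero_of_toSmall h (hW (le_refl W)) _ ?_
      refine (toSmall_res h (le_top : W ≤ ⊤) w').trans ?_
      rw [h2, map_zero]
    · exact h1

end PtBlowLib
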