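import Mathlib
import Groth.Prelude.Def_BlowUp2

/-! A common local generator of an effective Cartier ideal at finitely many closed points. -/

set_option autoImplicit false
set_option linter.style.haveILetI false
universe u

open CategoryTheory AlgebraicGeometry

namespace PtBlowLib

theorem exists_generator_near {R : Type u} [CommRing R] [IsNoetherianRing R] (T : Finset (Ideal R))
    (hT : ∀ q ∈ T, q.IsMaximal) (M : Ideal R)
    (hM : ∀ q ∈ T, ∃ s ∈ M, ∀ m ∈ M, ∃ c ∉ q, c * m ∈ Ideal.span {s}) :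
    ∃ t ∈ M, ∀ q ∈ T, ∃ h ∉ q, ∀ m ∈ M, h * m ∈ Ideal.span {t} := by
  classical
  choose s hs hgen using hM
  have he : ∀ q : T, ∃ e : R, e ∉ q.1 ∧ ∀ q' : T, q' ≠ q → e ∈ q'.1 := fun q => by
    have hnle : ¬ (∏ q' ∈ Finset.univ.erase q, q'.1) ≤ q.1 := fun hle => by
      haveI := hT _ q.2
      obtain ⟨q', hq', hle'⟩ := (Ideal.IsPrime.prod_le (hT _ q.2).isPrime).1 hle
      exact (Finset.mem_erase.1 hq').1 (Subtype.ext ((hT _ q'.2).eq_of_le (hT _ q.2).ne_top hle'))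
    obtain ⟨e, he, heq⟩ := Set.not_subset.1 hnle
    exact ⟨e, heq, fun q' hq' => Ideal.prod_le_inf.trans (Finset.inf_le (Finset.mem_erase.2 ⟨hq', Finset.mem_univ _⟩)) he⟩
  choose e he he' using he
  refine ⟨∑ q : T, e q * s q.1 q.2, M.sum_mem fun q _ => M.mul_mem_left _ (hs _ q.2), fun q hq => ?_⟩
  haveI := (hT q hq).isPrime
  have hrep : ∀ m ∈ M, ∃ c r, c ∉ q ∧ c * m = r * s q hq := fun m hm => by
    obtain ⟨c, hc, h⟩ := hgen q hq m hm
    obtain ⟨r, hr⟩ := Ideal.mem_span_singleton'.1 h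
    exact ⟨c, r, hc, hr.symm⟩
  choose cm rm hcm hrm using hrep
  let q₀ : T := ⟨q, hq⟩
  let C : R := ∏ q' : T, cm (s q'.1 q'.2) (hs _ q'.2)
  have hC : C ∉ q := fun h => by
    obtain ⟨q', -, hq'⟩ := (Ideal.IsPrime.prod_mem_iff (p := q)).1 h
    exact hcm _ _ hq'
  have hterm : ∀ q' : T, ∃ r, C * s q'.1 q'.2 = r * s q hq := fun q' => by
    obtain ⟨k, hk⟩ : cm (s q'.1 q'.2) (hs _ q'.2) ∣ C := Finset.dvd_prod_of_mem _ (Finset.mem_univ q')
    exact ⟨k * rm (s q'.1 q'.2) (hs _ q'.2), by rw [hk, mul_assoc k, ← hrm]; ring⟩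
  choose r hr using hterm
  let w : R := C * e q₀ + ∑ q' ∈ Finset.univ.erase q₀, e q' * r q'
  have hCt : C * (∑ q' : T, e q' * s q'.1 q'.2) = w * s q hq := by
    rw [← Finset.add_sum_erase _ _ (Finset.mem_univ q₀), mul_add, Finset.mul_sum, add_mul, Finset.sum_mul]
    congr 1
    · show C * (e q₀ * s q hq) = C * e q₀ * s q hq
      ring
    · exact Finset.sum_congr rfl fun q' _ => by rw [mul_assoc, ← hr q']; ring
  have hw : w ∉ q := fun h => by
    have h2 : (∑ q' ∈ Finset.univ.erase q₀, e q' * r q') ∈ q :=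
      q.sum_mem fun q' hq' => q.mul_mem_right _ (he' q' q₀ (Ne.symm (Finset.mem_erase.1 hq').1))
    have h1 : C * e q₀ ∈ q := by simpa [w] using q.sub_mem h h2
    exact ((hT q hq).isPrime.mem_or_mem h1).elim hC (he q₀)
  obtain ⟨G, hG⟩ : M.FG := IsNoetherian.noetherian M
  have hGm : ∀ g ∈ G, g ∈ M := fun g hg => hG ▸ Ideal.subset_span hg
  refine ⟨w * ∏ g ∈ G.attach, cm g.1 (hGm _ g.2), fun h => ?_, fun m hm => ?_⟩
  · rcases (hT q hq).isPrime.mem_or_mem h with h | h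
    · exact hw h
    · obtain ⟨g, -, hg⟩ := (Ideal.IsPrime.prod_mem_iff (p := q)).1 h
      exact hcm _ _ hg
  · rw [← hG] at hm
    induction hm using Submodule.span_induction with
    | mem g hg =>
      obtain ⟨k, hk⟩ : cm g (hGm g hg) ∣ ∏ g ∈ G.attach, cm g.1 (hGm _ g.2) :=
        Finset.dvd_prod_of_mem (fun g : G => cm g.1 (hGm _ g.2)) (Finset.mem_attach G ⟨g, hg⟩)
      rw [hk, Ideal.mem_span_singleton']
      exact ⟨k * rm g (hGm g hg) * C, by rw [mul_assoc, hCt]; linear_combination (-(k * w)) * hrm g (hGm g hg)⟩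
    | zero => simp
    | add x y _ _ hx hy => rw [mul_add]; exact add_mem hx hy
    | smul a x _ hx => rw [smul_eq_mul, mul_left_comm]; exact Ideal.mul_mem_left _ _ hx

/-- An effective Cartier ideal is principal on an affine neighbourhood of finitely many closed points. -/
theorem exists_gen_nhd {X : Scheme.{u}} [IsLocallyNoetherian X] {E : X.IdealSheafData} (hE : BlowUp.IsEffCartierIdeal E)
    (V₀ : X.affineOpens) (T : Set X) (hTf : T.Finite) (hTV : T ⊆ V₀.1) (hTc : ∀ x ∈ T, IsClosed ({x} : Set X)) :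
    ∃ V : X.affineOpens, T ⊆ V.1 ∧ ∃ t, E.ideal V = Ideal.span {t} := by
  classical
  haveI : IsNoetherianRing Γ(X, V₀.1) := IsLocallyNoetherian.component_noetherian V₀
  let q : T → Ideal Γ(X, V₀.1) := fun x => (V₀.2.primeIdealOf ⟨x.1, hTV x.2⟩).asIdeal
  haveI := hTf.fintype
  have hq : ∀ x, (q x).IsMaximal := fun x =>
    V₀.2.primeIdealOf_isMaximal_of_isClosed ⟨x.1, hTV x.2⟩ (hTc x.1 x.2)
  have hmem : ∀ (x : T) (g : Γ(X, V₀.1)), x.1 ∈ X.basicOpen g ↔ g ∉ q x := fun x g => by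
    conv_lhs => rw [← V₀.2.fromSpec_primeIdealOf ⟨x.1, hTV x.2⟩]
    show V₀.2.primeIdealOf ⟨x.1, hTV x.2⟩ ∈ V₀.2.fromSpec ⁻¹ᵁ X.basicOpen g ↔ _
    rw [V₀.2.fromSpec_preimage_basicOpen]
    exact PrimeSpectrum.mem_basicOpen _ _
  have hloc : ∀ x : T, ∃ s ∈ E.ideal V₀, ∀ m ∈ E.ideal V₀, ∃ c ∉ q x, c * m ∈ Ideal.span {s} := fun x => by
    obtain ⟨U, hxU, f, -, hf⟩ := hE x.1
    obtain ⟨g, g', hgg, hx⟩ := exists_basicOpen_le_affine_inter V₀.2 U.2 x.1 ⟨hTV x.2, hxU⟩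
    letI := (X.presheaf.map (homOfLE (X.basicOpen_le g)).op).hom.toAlgebra
    haveI : IsLocalization.Away g Γ(X, X.basicOpen g) := V₀.2.isLocalization_basicOpen g
    let D : X.affineOpens := ⟨X.basicOpen g, V₀.2.basicOpen g⟩
    have hD : (E.ideal D : Ideal Γ(X, X.basicOpen g)) = (E.ideal V₀).map (algebraMap Γ(X, V₀.1) Γ(X, X.basicOpen g)) := (E.map_ideal_basicOpen V₀ g).symm
    have hDle : D.1 ≤ U.1 := (hgg.le.trans (X.basicOpen_le g') : X.basicOpen g ≤ U.1)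
    have hD2 : E.ideal D = Ideal.span {(X.presheaf.map (homOfLE hDle).op).hom f} := by
      rw [← E.map_ideal (U := D) (V := U) hDle, hf, Ideal.map_span, Set.image_singleton]
      rfl
    rw [hD] at hD2
    have hfm : (X.presheaf.map (homOfLE hDle).op).hom f ∈ (E.ideal V₀).map (algebraMap Γ(X, V₀.1) Γ(X, X.basicOpen g)) :=
      hD2 ▸ Ideal.mem_span_singleton_self _
    obtain ⟨⟨⟨s, hs⟩, ⟨_, n, rfl⟩⟩, hsn⟩ := (IsLocalization.mem_map_algebraMap_iff (Submonoid.powers g) _).1 hfm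
    have hgq : g ∉ q x := (hmem x g).1 hx
    refine ⟨s, hs, fun m hm => ?_⟩
    obtain ⟨r, hr⟩ := Ideal.mem_span_singleton'.1 (hD2 ▸ Ideal.mem_map_of_mem _ hm)
    obtain ⟨⟨r₀, ⟨_, k, rfl⟩⟩, hr₀⟩ := IsLocalization.surj (Submonoid.powers g) r
    have he : algebraMap Γ(X, V₀.1) Γ(X, X.basicOpen g) (g ^ n * g ^ k * m) = algebraMap _ _ (r₀ * s) := by
      simp only [map_mul] at hsn hr₀ ⊢
      rw [← hr]
      linear_combination (r * algebraMap Γ(X, V₀.1) Γ(X, X.basicOpen g) (g ^ k)) * hsn +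
        (algebraMap Γ(X, V₀.1) Γ(X, X.basicOpen g) s) * hr₀
    obtain ⟨⟨_, l, rfl⟩, hl⟩ := (IsLocalization.eq_iff_exists (Submonoid.powers g) _).1 he
    refine ⟨g ^ l * (g ^ n * g ^ k), fun h => ?_, Ideal.mem_span_singleton'.2 ⟨g ^ l * r₀, ?_⟩⟩
    · rw [← pow_add, ← pow_add] at h
      exact hgq ((hq x).isPrime.mem_of_pow_mem _ h)
    · linear_combination -hl
  obtain ⟨t, ht, hh⟩ := exists_generator_near (Finset.univ.image q)
    (fun _ hp => by obtain ⟨x, -, rfl⟩ := Finset.mem_image.1 hp; exact hq x) (E.ideal V₀)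
    (fun _ hp => by obtain ⟨x, -, rfl⟩ := Finset.mem_image.1 hp; exact hloc x)
  let H : Ideal Γ(X, V₀.1) :=
    { carrier := {h | ∀ m ∈ E.ideal V₀, h * m ∈ Ideal.span {t}}
      add_mem' := fun {a b} ha hb m hm => by rw [add_mul]; exact add_mem (ha m hm) (hb m hm)
      zero_mem' := fun m _ => by rw [zero_mul]; exact Ideal.zero_mem _
      smul_mem' := fun c a ha m hm => by rw [smul_eq_mul, mul_assoc]; exact Ideal.mul_mem_left _ _ (ha m hm) }
  have hnot : ¬ (H : Set Γ(X, V₀.1)) ⊆ ⋃ x ∈ (Finset.univ : Finset T), (q x : Set Γ(X, V₀.1)) := fun hsub => by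
    rcases (Finset.univ : Finset T).eq_empty_or_nonempty with he | ⟨a, -⟩
    · simpa [he] using hsub H.zero_mem
    · obtain ⟨x, -, hx⟩ := (Ideal.subset_union_prime a a fun i _ _ _ => (hq i).isPrime).1 hsub
      obtain ⟨h, hh1, hh2⟩ := hh (q x) (Finset.mem_image_of_mem _ (Finset.mem_univ x))
      exact hh1 (hx hh2)
  obtain ⟨h, hH, hnq⟩ := Set.not_subset.1 hnot
  refine ⟨X.affineBasicOpen h, fun x hx => ?_, (X.presheaf.map (homOfLE (X.basicOpen_le h)).op).hom t, ?_⟩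
  · exact (hmem ⟨x, hx⟩ h).2 fun hq' => hnq (Set.mem_iUnion₂.2 ⟨⟨x, hx⟩, Finset.mem_univ _, hq'⟩)
  · letI := (X.presheaf.map (homOfLE (X.basicOpen_le h)).op).hom.toAlgebra
    haveI : IsLocalization.Away h Γ(X, X.basicOpen h) := V₀.2.isLocalization_basicOpen h
    rw [← E.map_ideal_basicOpen V₀ h]
    refine le_antisymm (Ideal.map_le_iff_le_comap.2 fun m hm => Ideal.mem_comap.2 ?_) ?_
    · obtain ⟨r, hr⟩ := Ideal.mem_span_singleton'.1 (hH m hm)
      obtain ⟨u, hu⟩ := IsLocalization.Away.algebraMap_isUnit (S := Γ(X, X.basicOpen h)) h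
      refine Ideal.mem_span_singleton'.2 ⟨(↑u⁻¹ : Γ(X, X.basicOpen h)) * algebraMap Γ(X, V₀.1) Γ(X, X.basicOpen h) r, ?_⟩
      have h2 := congrArg (algebraMap Γ(X, V₀.1) Γ(X, X.basicOpen h)) hr
      rw [map_mul, map_mul, ← hu] at h2
      show (↑u⁻¹ : Γ(X, X.basicOpen h)) * algebraMap Γ(X, V₀.1) Γ(X, X.basicOpen h) r * algebraMap Γ(X, V₀.1) Γ(X, X.basicOpen h) t = algebraMap Γ(X, V₀.1) Γ(X, X.basicOpen h) m
      rw [mul_assoc, h2, Units.inv_mul_cancel_left]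
    · exact Ideal.span_le.2 (Set.singleton_subset_iff.2 (Ideal.mem_map_of_mem _ ht))

end PtBlowLib
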