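import Mathlib
import Groth.Agent.LichtLib.Ample
import Groth.Agent.LichtLib.Basic
import Groth.Agent.MiscFlat6.TensorGG
import Groth.Agent.CurvLib.Divisor
import Groth.Agent.SweepSix.ConormalSpec
import Groth.Agent.ModifLib.Leray
import Groth.Agent.S4666

/-! The inverse image of an ideal of the affine base is generated by its sections. -/

set_option autoImplicit false
set_option linter.style.haveILetI false
universe u

open CategoryTheory AlgebraicGeometry TopologicalSpace Opposite

namespace PtBlowLib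

variable {A : Type u} [CommRing A] {X : Scheme.{u}}

theorem idealSheaf_top (K : Ideal A) :
    (Curv2.idealSheaf A K).ideal ⟨⊤, isAffineOpen_top _⟩ = K.map (Scheme.ΓSpecIso (CommRingCat.of A)).inv.hom :=
  Scheme.IdealSheafData.equivOfIsAffine.right_inv _

theorem ideal_comap_idealSheaf (f : X ⟶ Spec (CommRingCat.of A)) (K : Ideal A) (W : X.affineOpens) :
    ((Curv2.idealSheaf A K).comap f).ideal W =
      K.map ((X.presheaf.map (homOfLE (le_top : W.1 ≤ ⊤)).op).hom.comp (Coh.toGlobal f)) := by
  rw [Groth.Agent.S4666.ideal_comap_eq _ f ⟨⊤, isAffineOpen_top _⟩ W le_top, idealSheaf_top, Ideal.map_map]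
  congr 1

/-- The inverse image of an ideal of the base is generated by its sections. -/
theorem isGloballyGenerated_comap (f : X ⟶ Spec (CommRingCat.of A)) (K : Ideal A) :
    Curv2.IsGloballyGenerated (ClSub.idealMod ((Curv2.idealSheaf A K).comap f)) := by
  set J := (Curv2.idealSheaf A K).comap f with hJ
  haveI := SweepSix.ConormalSpec.isQCoh_idealMod J
  choose t ht using fun a : K => LichtLib.exists_ideFn J ⊤ (Coh.toGlobal f a.1 : Γ(X, ⊤)) fun T hT => by
    rw [hJ, ideal_comap_idealSheaf f K T]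
    exact Ideal.mem_map_of_mem _ a.2
  refine MiscFlat6.isGloballyGenerated_of_cancel _ fun N q hq =>
    MiscFlat6.eq_zero_of_affine_cover (fun W : X.affineOpens => W.1) (fun W => W.2)
      (fun y => by
        obtain ⟨W, hW, hy, -⟩ := exists_isAffineOpen_mem_and_subset (x := y) (U := (⊤ : X.Opens)) trivial
        exact ⟨⟨W, hW⟩, hy⟩) _ q fun W w => ?_
  have hw : LichtLib.ideFn J w ∈ J.ideal W := by
    refine (GenFlatStrat.subschemeι_app_eq_zero_iff J W _).mp ?_
    exact congr(($(Limits.kernel.condition (ClSub.toSubscheme J))).app W.1 w)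
  have hW : J.ideal W = _ := (congrArg (fun E : X.IdealSheafData => E.ideal W) hJ).trans (ideal_comap_idealSheaf f K W)
  rw [hW, Ideal.map] at hw
  have key : ∀ z ∈ Ideal.span ((fun a => (X.presheaf.map (homOfLE (le_top : W.1 ≤ ⊤)).op).hom (Coh.toGlobal f a)) '' (K : Set A)),
      ∃ v : Γ(ClSub.idealMod J, W.1), LichtLib.ideFn J v = z ∧ q.app W.1 v = 0 := fun z hz => by
    induction hz using Submodule.span_induction with
    | mem z hz =>
      obtain ⟨a, ha, rfl⟩ := hz
      refine ⟨AmpleLib.res _ (le_top : W.1 ≤ ⊤) (t ⟨a, ha⟩), ?_, ?_⟩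
      · rw [LichtLib.ideFn_res, ht]
      · refine (QCohLib.app_map q (homOfLE _) (t ⟨a, ha⟩)).trans ?_
        rw [hq, map_zero]
    | zero => exact ⟨0, by simp [LichtLib.ideFn], map_zero _⟩
    | add x y _ _ hx hy =>
      obtain ⟨v, hv, hv0⟩ := hx
      obtain ⟨v', hv', hv0'⟩ := hy
      refine ⟨v + v', ?_, by rw [map_add, hv0, hv0', add_zero]⟩
      rw [← hv, ← hv']
      exact map_add ((ClSub.idealModι J).app W.1).hom v v'
    | smul r x _ hx =>
      obtain ⟨v, hv, hv0⟩ := hx
      refine ⟨r • v, by rw [LichtLib.ideFn_smul, hv]; rfl, ?_⟩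
      refine (QCohLib.app_smul q _ r _).trans ?_
      rw [hv0, smul_zero]
  obtain ⟨v, hv, hv0⟩ := key _ hw
  rw [← LichtLib.ideFn_injective J W.1 hv]
  exact hv0

/-- If the ideal has no `H¹`, functions extend from the closed subscheme. -/
theorem subschemeι_app_top_surjective (J : X.IdealSheafData) (h : Subsingleton (Coh.HH X (ClSub.idealMod J) 1)) :
    Function.Surjective (J.subschemeι.app ⊤).hom := fun z => by
  let e := ModifLib.h0Sec (X := X) (ClSub.quotMod J)
  obtain ⟨y, hy⟩ := LichtLib.surjective_g (CurvLib.idealSeq_shortExact J) (p := 0) h (e.symm z)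
  refine ⟨ModifLib.h0Sec (X := X) (Coh.structureModule X) y, ?_⟩
  refine Eq.trans ?_ ((congrArg e hy).trans (e.apply_symm_apply z))
  letI : X.Over (Spec (CommRingCat.of Γ(X, ⊤))) := ⟨X.toSpecΓ⟩
  exact (ModifLib.h0Sec_map (A := Γ(X, ⊤)) (X := X) (ClSub.toSubscheme J) y).symm

end PtBlowLib
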