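import Mathlib
import Groth.Agent.PtBlowLib.Extend
import Groth.Agent.PtBlowLib.Surj
import Groth.Agent.PtBlowLib.Gen
import Groth.Agent.CDivRatioLib.Basic
import Groth.Agent.OrdSumLib.Basic
import Groth.Agent.LenInsepLib.Tensor

/-! The colength drops when an exceptional power is split off. -/

set_option autoImplicit false
set_option linter.style.haveILetI false
set_option maxHeartbeats 1000000
universe u

open CategoryTheory AlgebraicGeometry TopologicalSpace Opposite

namespace PtBlowLib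

variable {A : Type u} [CommRing A] {X : Scheme.{u}} [X.Over (Spec (CommRingCat.of A))] [IsIntegral X]
  [IsLocallyNoetherian X]

/-- The functions of a closed subscheme as an algebra over the base. -/
noncomputable def subAlg (J : X.IdealSheafData) : A →+* Γ(J.subscheme, J.subschemeι ⁻¹ᵁ ⊤) :=
  (J.subschemeι.app ⊤).hom.comp (Coh.toGlobal (X ↘ Spec (CommRingCat.of A)))

theorem length_HH_quotMod (J : X.IdealSheafData) :
    Module.length A (Coh.HH X (ClSub.quotMod J) 0) =
      (letI := (subAlg (A := A) J).toAlgebra; Module.length A Γ(J.subscheme, J.subschemeι ⁻¹ᵁ ⊤)) := by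
  letI := (subAlg (A := A) J).toAlgebra
  let e : Coh.HH X (ClSub.quotMod J) 0 ≃ₗ[A] Γ(J.subscheme, J.subschemeι ⁻¹ᵁ ⊤) :=
    { (ModifLib.h0Sec (ClSub.quotMod J) : Coh.HH X (ClSub.quotMod J) 0 ≃+ Γ(J.subscheme, J.subschemeι ⁻¹ᵁ ⊤)) with
      map_smul' := fun c x => (ModifLib.h0Sec_smul (ClSub.quotMod J) c x).trans rfl }
  exact e.length_eq

theorem length_lt_and_sum_le (I : Ideal A) (hI : IsFiniteLength A (A ⧸ I)) (E : X.IdealSheafData)
    (hE : BlowUp.IsEffCartierIdeal E) (hEne : (E.support : Set X).Nonempty) (d : ℕ) (hd : 0 < d) (I' : X.IdealSheafData)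
    (hJ : (Curv2.idealSheaf A I).comap (X ↘ Spec (CommRingCat.of A)) = I' * E ^ d)
    (hH1 : Subsingleton (Coh.HH X (ClSub.idealMod ((Curv2.idealSheaf A I).comap (X ↘ Spec (CommRingCat.of A)))) 1))
    (hglob : Function.Surjective (Coh.toGlobal (X ↘ Spec (CommRingCat.of A))))
    (hfin : (I'.support : Set X).Finite) (hcl : ∀ x ∈ (I'.support : Set X), IsClosed ({x} : Set X))
    (V₀ : X.affineOpens) (hV₀ : (I'.support : Set X) ⊆ V₀.1) :
    Module.length A (Coh.HH X (ClSub.quotMod I') 0) < Module.length A (A ⧸ I) ∧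
      ∑ᶠ x : ↥I'.subscheme, Module.length (I'.subscheme.presheaf.stalk x) (I'.subscheme.presheaf.stalk x) ≤
        Module.length A (Coh.HH X (ClSub.quotMod I') 0) := by
  classical
  let f := X ↘ Spec (CommRingCat.of A)
  obtain ⟨V, hTV, t, ht⟩ := exists_gen_nhd hE V₀ _ hfin hV₀ hcl
  haveI : IsNoetherianRing Γ(X, V.1) := IsLocallyNoetherian.component_noetherian V
  obtain ⟨J, hJdef⟩ : ∃ J, J = (Curv2.idealSheaf A I).comap f := ⟨_, rfl⟩
  have hJF : J = I' * E ^ d := hJdef.trans hJ
  have hle : J ≤ E ^ d := by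
    intro U
    rw [hJF, Scheme.IdealSheafData.ideal_mul, Pi.mul_apply]
    exact (Ideal.mul_le_right (I := I'.ideal U) (J := (E ^ d).ideal U))
  have hdis : ∀ U : X.affineOpens, Disjoint (U.1 : Set X) (I'.support : Set X) → J.ideal U = (E ^ d).ideal U := fun U hU => by
    rw [hJF, Scheme.IdealSheafData.ideal_mul, Pi.mul_apply,
      CDivRatioLib.ideal_eq_top I' U fun x hx hx' => Set.disjoint_left.1 hU hx hx', Ideal.top_mul]
  -- algebra structures
  let res : Γ(X, ⊤) →+* Γ(X, V.1) := (X.presheaf.map (homOfLE (le_top : V.1 ≤ ⊤)).op).hom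
  letI : Algebra A Γ(X, V.1) := (res.comp (Coh.toGlobal f)).toAlgebra
  letI : Algebra A Γ(J.subscheme, J.subschemeι ⁻¹ᵁ ⊤) := (subAlg (A := A) J).toAlgebra
  letI : Algebra A Γ(J.subscheme, J.subschemeι ⁻¹ᵁ V.1) :=
    ((J.subschemeι.app V.1).hom.comp (res.comp (Coh.toGlobal f))).toAlgebra
  letI : Algebra A Γ(I'.subscheme, I'.subschemeι ⁻¹ᵁ ⊤) := (subAlg (A := A) I').toAlgebra
  have hresJ : ∀ a : A, (J.subscheme.presheaf.map (homOfLE (J.subschemeι.preimage_mono (le_top : V.1 ≤ ⊤))).op).hom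
      (subAlg (A := A) J a) = (J.subschemeι.app V.1).hom (res (Coh.toGlobal f a)) := fun a => by
    simp only [subAlg, RingHom.comp_apply, res, ← CommRingCat.comp_apply]
    exact (congr($(J.subschemeι.naturality (homOfLE (le_top : V.1 ≤ ⊤)).op) (Coh.toGlobal f a))).symm
  -- the extension by zero
  have hFt : (E ^ d).ideal V = Ideal.span {t ^ d} := by
    rw [Scheme.IdealSheafData.ideal_pow, Pi.pow_apply, ht, Ideal.span_singleton_pow]
  have hkill : ∀ r : Γ(X, V.1), toSmall hle V.1 ((J.subschemeι.app V.1).hom (r * t ^ d)) = 0 := fun r => by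
    rw [toSmall_app, GenFlatStrat.subschemeι_app_eq_zero_iff, hFt]
    exact Ideal.mul_mem_left _ _ (Ideal.mem_span_singleton_self _)
  have hext := fun r => existsUnique_extend (T := (I'.support : Set X)) hle hTV hdis I'.support.isClosed _ (hkill r)
  choose w hw hwu using fun r => hext r
  have hwA : ∀ (a : A) (r : Γ(X, V.1)), w (a • r) = a • w r := fun a r => (hwu _ _ ⟨by
    rw [Algebra.smul_def, map_mul, (hw r).1, show algebraMap A Γ(J.subscheme, J.subschemeι ⁻¹ᵁ ⊤) a = subAlg (A := A) J a from rfl,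
      hresJ a, ← map_mul, Algebra.smul_def, mul_assoc]
    rfl, by rw [Algebra.smul_def, map_mul, (hw r).2, mul_zero]⟩).symm
  let Φ : Γ(X, V.1) →ₗ[A] Γ(J.subscheme, J.subschemeι ⁻¹ᵁ ⊤) :=
    { toFun := w
      map_add' := fun r s => (hwu _ _ ⟨by rw [map_add, (hw r).1, (hw s).1, ← map_add, add_mul],
        by rw [map_add, (hw r).2, (hw s).2, add_zero]⟩).symm
      map_smul' := hwA }
  have htd : Nonempty V.1 → t ^ d ≠ 0 := fun hne => by
    refine pow_ne_zero _ fun h0 => ?_
    obtain ⟨U, hxU, g, hg, hgU⟩ := hE (Classical.arbitrary V.1).1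
    obtain ⟨a, a', haa, hx⟩ := exists_basicOpen_le_affine_inter V.2 U.2 _ ⟨(Classical.arbitrary V.1).2, hxU⟩
    have hDU : X.basicOpen a ≤ U.1 := haa.le.trans (X.basicOpen_le a')
    haveI : Nonempty (X.basicOpen a) := ⟨⟨_, hx⟩⟩
    have h1 := E.map_ideal (U := X.affineBasicOpen a) (V := U) hDU
    have h2 := E.map_ideal_basicOpen V a
    rw [ht, h0, Ideal.span_singleton_zero, Ideal.map_bot] at h2
    rw [← h2, hgU, Ideal.map_span, Set.image_singleton] at h1
    replace h1 := Ideal.span_singleton_eq_bot.1 h1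
    haveI : Nonempty U.1 := ⟨⟨_, hxU⟩⟩
    have h3 : Function.Injective (X.presheaf.map (homOfLE hDU).op).hom :=
      fun p q hpq => X.germToFunctionField_injective U.1 (by
        have := congrArg (X.germToFunctionField (X.basicOpen a)).hom hpq
        simp only [Scheme.germToFunctionField] at this ⊢
        rwa [TopCat.Presheaf.germ_res_apply, TopCat.Presheaf.germ_res_apply] at this)
    exact nonZeroDivisors.ne_zero hg (h3 (h1.trans (map_zero _).symm))
  have hker : ∀ r, r ∈ LinearMap.ker Φ ↔ r ∈ I'.ideal V := fun r => by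
    rw [LinearMap.mem_ker]
    have hJV : J.ideal V = I'.ideal V * Ideal.span {t ^ d} := by
      rw [hJF, Scheme.IdealSheafData.ideal_mul, Pi.mul_apply, hFt]
    have hiff : w r = 0 ↔ (J.subschemeι.app V.1).hom (r * t ^ d) = 0 :=
      ⟨fun h => by rw [← (hw r).1, h, map_zero], fun h => (hwu r 0 ⟨by rw [map_zero, h], map_zero _⟩).symm⟩
    refine hiff.trans ?_
    rw [GenFlatStrat.subschemeι_app_eq_zero_iff, hJV, Ideal.mem_mul_span_singleton]
    haveI : Nonempty V.1 ∨ V.1 = ⊥ := by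
      rcases (V.1 : Set X).eq_empty_or_nonempty with h | h
      · exact Or.inr (Opens.ext h)
      · exact Or.inl h.to_subtype
    rcases this with hne | hbot
    · exact ⟨fun ⟨z, hz, hzr⟩ => mul_right_cancel₀ (htd hne) hzr ▸ hz, fun hr => ⟨r, hr, rfl⟩⟩
    · haveI : Subsingleton Γ(X, V.1) := by rw [hbot]; infer_instance
      exact iff_of_true ⟨0, Ideal.zero_mem _, Subsingleton.elim _ _⟩ (Subsingleton.elim 0 r ▸ Ideal.zero_mem _)
  -- the functions of the residual subscheme
  have hpre : I'.subschemeι ⁻¹ᵁ V.1 = I'.subschemeι ⁻¹ᵁ ⊤ := top_le_iff.1 fun y _ => hTV (by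
    rw [← I'.range_subschemeι]; exact ⟨y, rfl⟩)
  let π : Γ(X, V.1) →ₗ[A] Γ(I'.subscheme, I'.subschemeι ⁻¹ᵁ ⊤) :=
    { toFun := fun r => (I'.subscheme.presheaf.map (eqToHom hpre.symm).op).hom ((I'.subschemeι.app V.1).hom r)
      map_add' := fun r s => by rw [map_add, map_add]
      map_smul' := fun a r => by
        rw [Algebra.smul_def, map_mul, map_mul, RingHom.id_apply, Algebra.smul_def]
        congr 1
        show _ = subAlg (A := A) I' a
        simp only [subAlg, RingHom.comp_apply, RingHom.algebraMap_toAlgebra, res, ← CommRingCat.comp_apply]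
        have hn : (X.presheaf.map (homOfLE (le_top : V.1 ≤ ⊤)).op ≫ I'.subschemeι.app V.1) ≫
            I'.subscheme.presheaf.map (eqToHom hpre.symm).op = I'.subschemeι.app ⊤ := by
          rw [I'.subschemeι.naturality, Category.assoc, ← Functor.map_comp]
          exact (congrArg (fun k => I'.subschemeι.app ⊤ ≫ I'.subscheme.presheaf.map k) (Subsingleton.elim _ (𝟙 _))).trans
            (by rw [CategoryTheory.Functor.map_id, Category.comp_id])
        exact congr($hn (Coh.toGlobal f a)) }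
  have hπ : Function.Surjective π := fun z => by
    obtain ⟨r, hr⟩ := I'.subschemeι_app_surjective V ((I'.subscheme.presheaf.map (eqToHom hpre).op).hom z)
    refine ⟨r, ?_⟩
    show (I'.subscheme.presheaf.map (eqToHom hpre.symm).op).hom ((I'.subschemeι.app V.1).hom r) = z
    rw [hr, ← CommRingCat.comp_apply, ← Functor.map_comp, ← op_comp, eqToHom_trans, eqToHom_refl, op_id,
      CategoryTheory.Functor.map_id]
    rfl
  have hπk : LinearMap.ker π = LinearMap.ker Φ := by
    ext r
    rw [hker, LinearMap.mem_ker, ← GenFlatStrat.subschemeι_app_eq_zero_iff]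
    exact map_eq_zero_iff _ (ConcreteCategory.bijective_of_isIso (I'.subscheme.presheaf.map (eqToHom hpre.symm).op)).1
  have hlenI' : Module.length A (Coh.HH X (ClSub.quotMod I') 0) = Module.length A (LinearMap.range Φ) := by
    rw [length_HH_quotMod]
    exact ((π.quotKerEquivOfSurjective hπ).symm ≪≫ₗ Submodule.quotEquivOfEq _ _ hπk ≪≫ₗ Φ.quotKerEquivRange).length_eq
  -- the bound
  have hsurj : Function.Surjective (J.subschemeι.app ⊤).hom :=
    subschemeι_app_top_surjective J (hJdef ▸ hH1)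
  have hAs : Function.Surjective (subAlg (A := A) J) := hsurj.comp hglob
  have hk : I ≤ RingHom.ker (subAlg (A := A) J) := fun a ha => by
    obtain ⟨c, hc⟩ := LichtLib.exists_ideFn J ⊤ (Coh.toGlobal f a : Γ(X, ⊤)) fun T hT => by
      rw [hJdef, ideal_comap_idealSheaf f I T]
      exact Ideal.mem_map_of_mem _ ha
    rw [RingHom.mem_ker]
    show (J.subschemeι.app ⊤).hom (Coh.toGlobal f a) = 0
    rw [← hc]
    exact congr(($(Limits.kernel.condition (ClSub.toSubscheme J))).app ⊤ c)
  have hle1 : Module.length A Γ(J.subscheme, J.subschemeι ⁻¹ᵁ ⊤) ≤ Module.length A (A ⧸ I) :=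
    Module.length_le_of_surjective (Submodule.liftQ I (Algebra.linearMap A Γ(J.subscheme, J.subschemeι ⁻¹ᵁ ⊤))
      (fun a ha => LinearMap.mem_ker.2 (hk ha))) (fun z => by
        obtain ⟨a, rfl⟩ := hAs z
        exact ⟨Submodule.Quotient.mk a, rfl⟩)
  have hne : LinearMap.range Φ < ⊤ := lt_top_iff_ne_top.2 fun htop => by
    obtain ⟨r, hr⟩ := (LinearMap.range_eq_top.1 htop) 1
    have h10 : (1 : Γ((E ^ d).subscheme, (E ^ d).subschemeι ⁻¹ᵁ ⊤)) = 0 := by
      rw [← map_one (toSmall hle (⊤ : X.Opens)), ← hr]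
      exact (hw r).2
    obtain ⟨e, he⟩ := hEne
    have he' : e ∈ ((E ^ d).support : Set X) := by
      refine Scheme.IdealSheafData.support_antitone (?_ : E ^ d ≤ E) he
      intro U
      rw [Scheme.IdealSheafData.ideal_pow, Pi.pow_apply]
      exact Ideal.pow_le_self (by omega)
    rw [← Scheme.IdealSheafData.range_subschemeι] at he'
    obtain ⟨z, -⟩ := he'
    haveI : Nonempty ((E ^ d).subschemeι ⁻¹ᵁ (⊤ : X.Opens)) := ⟨⟨z, trivial⟩⟩
    exact one_ne_zero h10
  haveI hfinJ : IsFiniteLength A Γ(J.subscheme, J.subschemeι ⁻¹ᵁ ⊤) :=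
    Module.length_ne_top_iff.1 (ne_top_of_le_ne_top (Module.length_ne_top_iff.2 hI) hle1)
  haveI := (isFiniteLength_iff_isNoetherian_isArtinian.1 hfinJ).1
  haveI := (isFiniteLength_iff_isNoetherian_isArtinian.1 hfinJ).2
  refine ⟨hlenI'.trans_lt ((Submodule.length_lt hne.ne).trans_le hle1), ?_⟩
  -- the local lengths
  rw [length_HH_quotMod]
  have haff : IsAffineOpen (I'.subschemeι ⁻¹ᵁ (⊤ : X.Opens)) := hpre ▸ V.2.preimage I'.subschemeι
  haveI : IsArtinianRing Γ(I'.subscheme, I'.subschemeι ⁻¹ᵁ ⊤) := by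
    haveI : IsArtinian A Γ(I'.subscheme, I'.subschemeι ⁻¹ᵁ ⊤) :=
      isArtinian_of_linearEquiv ((π.quotKerEquivOfSurjective hπ).symm ≪≫ₗ Submodule.quotEquivOfEq _ _ hπk ≪≫ₗ Φ.quotKerEquivRange).symm
    exact isArtinian_of_tower A ‹_›
  letI : Fintype (MaximalSpectrum Γ(I'.subscheme, I'.subschemeι ⁻¹ᵁ ⊤)) := Fintype.ofFinite _
  rw [OrdSumLib.length_eq_sum A (B := Γ(I'.subscheme, I'.subschemeι ⁻¹ᵁ ⊤)) _
    (isFiniteLength_iff_isNoetherian_isArtinian.2 ⟨inferInstance, inferInstance⟩)]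
  haveI : Finite I'.subscheme := by
    haveI := hfin.to_subtype
    exact Finite.of_injective (fun z => (⟨I'.subschemeι z, I'.range_subschemeι ▸ Set.mem_range_self z⟩ : (I'.support : Set X)))
      fun a b h => I'.subschemeι.isEmbedding.injective (congrArg Subtype.val h)
  letI : Fintype I'.subscheme := Fintype.ofFinite _
  rw [finsum_eq_sum_of_fintype]
  let φ : I'.subscheme → MaximalSpectrum Γ(I'.subscheme, I'.subschemeι ⁻¹ᵁ ⊤) := fun z =>
    ⟨(haff.primeIdealOf ⟨z, trivial⟩).asIdeal, IsArtinianRing.isMaximal_of_isPrime _⟩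
  have hφ : Function.Injective φ := fun a b h => by
    have h' : haff.primeIdealOf ⟨a, trivial⟩ = haff.primeIdealOf ⟨b, trivial⟩ :=
      PrimeSpectrum.ext (congrArg MaximalSpectrum.asIdeal h)
    have := congrArg haff.fromSpec h'
    rw [haff.fromSpec_primeIdealOf, haff.fromSpec_primeIdealOf] at this
    exact this
  refine le_trans ?_ (Finset.sum_le_sum_of_subset (Finset.subset_univ (Finset.univ.map ⟨φ, hφ⟩)))
  rw [Finset.sum_map]
  refine Finset.sum_le_sum fun z _ => ?_
  letI : Algebra Γ(I'.subscheme, I'.subschemeι ⁻¹ᵁ ⊤) (I'.subscheme.presheaf.stalk z) :=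
    (I'.subscheme.presheaf.germ (I'.subschemeι ⁻¹ᵁ (⊤ : X.Opens)) z trivial).hom.toAlgebra
  haveI : IsLocalization.AtPrime (I'.subscheme.presheaf.stalk z) (φ z).asIdeal := haff.isLocalization_stalk ⟨z, trivial⟩
  refine le_trans (le_of_eq ?_) (le_mul_of_one_le_left' ?_)
  · rw [LenInsepLib.length_eq_of_ringEquiv (IsLocalization.algEquiv (φ z).asIdeal.primeCompl
      (I'.subscheme.presheaf.stalk z) (Localization.AtPrime (φ z).asIdeal)).toRingEquiv]
    exact (IsLocalizedModule.linearEquiv (φ z).asIdeal.primeCompl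
      (Algebra.linearMap Γ(I'.subscheme, I'.subschemeι ⁻¹ᵁ ⊤) (Localization.AtPrime (φ z).asIdeal))
      (LocalizedModule.mkLinearMap (φ z).asIdeal.primeCompl Γ(I'.subscheme, I'.subschemeι ⁻¹ᵁ ⊤))
      |>.extendScalarsOfIsLocalization (φ z).asIdeal.primeCompl (Localization.AtPrime (φ z).asIdeal)).length_eq
  · haveI : Nontrivial (Γ(I'.subscheme, I'.subschemeι ⁻¹ᵁ ⊤) ⧸ (φ z).asIdeal) :=
      Ideal.Quotient.nontrivial_iff.2 (φ z).isMaximal.ne_top
    exact Order.one_le_iff_pos.2 Module.length_pos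

end PtBlowLib
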