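import Mathlib
import Groth.Agent.ModifLib.Basic
import Groth.Agent.S2422
import Groth.Agent.EffCartLib.Basic
import Groth.Agent.BlowUpLib.Props
import Groth.Agent.ParaFLib.Normal
import Groth.Agent.CommAlgDim.RegularRing
import Groth.Agent.S1622
import Groth.Agent.S7323
import Groth.Agent.FinPicLib.Topo
import Groth.Agent.GenusZeroLib.PSpace
import Groth.Agent.AlgSpRegLib.ImageReduced
import Groth.Agent.LichtLib.Ample
import Groth.Agent.AmpleThLib.FiniteSet
import Groth.Agent.PtBlowLib.Surj
import Groth.Agent.NormalLib.Regular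

/-! Basic facts on the blowing up of a regular local surface germ at its closed point. -/

set_option autoImplicit false
set_option linter.style.haveILetI false
set_option backward.isDefEq.respectTransparency false
set_option backward.isDefEq.respectTransparency.types false
universe u

open CategoryTheory AlgebraicGeometry

namespace PtBlowLib

/-- Functions on a modification of a normal affine scheme. -/
theorem toGlobal_surjective {A : Type u} [CommRing A] [IsDomain A] [IsNoetherianRing A] [IsIntegrallyClosed A]
    {X : Scheme.{u}} [IsIntegral X] (f : X ⟶ Spec (CommRingCat.of A)) [IsProper f]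
    {U : (Spec (CommRingCat.of A)).Opens} (hU : (U : Set (Spec (CommRingCat.of A))).Nonempty) [IsIso (f ∣_ U)] :
    Function.Surjective (Coh.toGlobal f) := by
  haveI : IsLocallyNoetherian X := LocallyOfFiniteType.isLocallyNoetherian f
  have hη := ModifLib.map_genericPoint f hU
  have hdom : f.base (genericPoint X) ⤳ genericPoint (Spec (CommRingCat.of A)) := specializes_of_eq hη
  have hbij : Function.Surjective (CohIII.stalkToFunctionField f (genericPoint (Spec (CommRingCat.of A))) hdom) := by
    haveI : IsIso (f.stalkMap (genericPoint X)) := ModifLib.isIso_stalkMap_genericPoint f hU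
    intro z
    obtain ⟨w, hw⟩ := (ConcreteCategory.bijective_of_isIso (f.stalkMap (genericPoint X))).2 z
    refine ⟨((Spec (CommRingCat.of A)).presheaf.stalkSpecializes (specializes_of_eq hη.symm)).hom w, Eq.trans ?_ hw⟩
    refine congrArg (f.stalkMap (genericPoint X)).hom ?_
    rw [← CommRingCat.comp_apply, TopCat.Presheaf.stalkSpecializes_comp, TopCat.Presheaf.stalkSpecializes_refl]
    rfl
  haveI := Groth.Agent.S2422.result (ParaFLib.isNormal_spec A) f hdom (fun x _ => hbij x) ⊤
  exact (ConcreteCategory.bijective_of_isIso (f.app ⊤)).2.comp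
    (ConcreteCategory.bijective_of_isIso (Scheme.ΓSpecIso (CommRingCat.of A)).inv).2

theorem coe_support_idealSheaf {A : Type u} [CommRing A] (K : Ideal A) :
    ((Curv2.idealSheaf A K).support : Set (Spec (CommRingCat.of A))) = PrimeSpectrum.zeroLocus (K : Set A) := by
  erw [Scheme.IdealSheafData.coe_support_ofIdealTop, Spec_zeroLocus, ← Ideal.coe_comap,
    Ideal.comap_map_of_bijective _ (ConcreteCategory.bijective_of_isIso (Scheme.ΓSpecIso (CommRingCat.of A)).inv)]

theorem idealSheaf_mono {A : Type u} [CommRing A] {K L : Ideal A} (h : K ≤ L) :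
    Curv2.idealSheaf A K ≤ Curv2.idealSheaf A L :=
  Scheme.IdealSheafData.le_of_isAffine (by
    erw [idealSheaf_top, idealSheaf_top]
    exact Ideal.map_mono h)

variable (A : Type u) [CommRing A] [IsRegularLocalRing A] (hA : ringKrullDim A = 2)
  {X : Scheme.{u}} (b : X ⟶ Spec (CommRingCat.of A))
  (hb : BlowUp.IsBlowUp b (Curv2.idealSheaf A (IsLocalRing.maximalIdeal A)))

include hb in
/-- The blow-up is proper. -/
theorem isProper_ptBlow : IsProper b :=
  BlowUpLib.isProper_of_isBlowUp hb fun U => by
    haveI := IsLocallyNoetherian.component_noetherian U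
    exact IsNoetherian.noetherian _

include hA hb in
/-- The blow-up is integral. -/
theorem isIntegral_ptBlow : IsIntegral X := by
  obtain ⟨hi, hreg⟩ := Groth.Agent.S1622.result A hA X b hb
  haveI := hi
  haveI : IsReduced X := @isReduced_of_isReduced_stalk _ fun x =>
    haveI := hreg x
    haveI := CommAlgDim.isDomain_of_isRegularLocalRing (X.presheaf.stalk x)
    inferInstance
  exact isIntegral_of_irreducibleSpace_of_isReduced X

include hA hb in
/-- The blow-up is an isomorphism over the punctured spectrum. -/
theorem exists_iso_open : ∃ U : (Spec (CommRingCat.of A)).Opens,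
    (U : Set (Spec (CommRingCat.of A))).Nonempty ∧ IsIso (b ∣_ U) := by
  haveI : IsDomain A := CommAlgDim.isDomain_of_isRegularLocalRing A
  refine ⟨(Curv2.idealSheaf A (IsLocalRing.maximalIdeal A)).support.compl,
    ⟨(⟨⊥, Ideal.isPrime_bot⟩ : PrimeSpectrum A), fun h => ?_⟩, EffCartLib.isIso_off_center _ b hb _ le_rfl⟩
  have h' : (IsLocalRing.maximalIdeal A : Set A) ⊆ (⊥ : Ideal A) := by
    rw [coe_support_idealSheaf] at h
    exact h
  have h0 := ringKrullDim_eq_zero_of_isField (IsLocalRing.isField_iff_maximalIdeal_eq.mpr (le_bot_iff.1 h'))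
  rw [hA] at h0
  exact absurd h0 (by norm_num)

include hA hb in
/-- Functions on the blow-up come from the base. -/
theorem toGlobal_surjective_ptBlow : Function.Surjective (Coh.toGlobal b) := by
  haveI := isProper_ptBlow A b hb
  haveI := isIntegral_ptBlow A hA b hb
  haveI : IsDomain A := CommAlgDim.isDomain_of_isRegularLocalRing A
  haveI : IsIntegrallyClosed A := NormalLib.isIntegrallyClosed_of_isRegularLocalRing A
  obtain ⟨U, hU, hi⟩ := exists_iso_open A hA b hb
  haveI := hi
  exact toGlobal_surjective b hU

include hb in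
theorem support_exceptional : ((BlowUp.exceptional b (Curv2.idealSheaf A (IsLocalRing.maximalIdeal A))).support : Set X) =
    b ⁻¹' {IsLocalRing.closedPoint A} := by
  rw [BlowUp.exceptional, Scheme.IdealSheafData.support_comap]
  show b ⁻¹' ((Curv2.idealSheaf A (IsLocalRing.maximalIdeal A)).support : Set (Spec (CommRingCat.of A))) = _
  rw [coe_support_idealSheaf]
  erw [PrimeSpectrum.zeroLocus_eq_singleton]
  rfl

/-- A closed subset of a projective line not containing it is a finite set of closed points. -/
theorem finite_of_not_le_line {Y : Scheme.{u}} [IsNoetherian Y] (E I' : Y.IdealSheafData) (k : Type u) [Field k]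
    (e' : E.subscheme ≅ CohB1.ProjSpace 1 k) (hsub : (I'.support : Set Y) ⊆ E.support) (hnle : ¬ I' ≤ E) :
    (I'.support : Set Y).Finite ∧ ∀ x ∈ (I'.support : Set Y), IsClosed ({x} : Set Y) := by
  haveI hP : IsIntegral (CohB1.ProjSpace 1 k) := GenusZeroLib.isIntegral_projSpace k 1
  haveI : Nonempty E.subscheme := ⟨e'.inv (genericPoint (CohB1.ProjSpace 1 k))⟩
  haveI : IsIntegral E.subscheme := isIntegral_of_isOpenImmersion e'.hom
  haveI : IsNoetherian E.subscheme := {
    toIsLocallyNoetherian := LocallyOfFiniteType.isLocallyNoetherian E.subschemeι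
    toCompactSpace := QuasiCompact.compactSpace_of_compactSpace E.subschemeι }
  have hdim : topologicalKrullDim E.subscheme ≤ 1 := by
    rw [IsHomeomorph.topologicalKrullDim_eq _ e'.hom.homeomorph.isHomeomorph, GenusZeroLib.dim_projSpace]
    rfl
  let C : Set E.subscheme := E.subschemeι ⁻¹' (I'.support : Set Y)
  have hgen : genericPoint E.subscheme ∉ C := fun hη => hnle <| by
    have hle : (E.support : Set Y) ⊆ I'.support := by
      rw [← E.range_subschemeι]
      rintro _ ⟨z, rfl⟩
      exact ((genericPoint_specializes z).map E.subschemeι.continuous).mem_closed I'.support.isClosed hη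
    rw [AlgSpRegLib.eq_vanishingIdeal_support E]
    exact Scheme.IdealSheafData.le_support_iff_le_vanishingIdeal.1 hle
  have hCgen : ∀ y ∈ C, ¬ FinPicLib.IsGen y := fun y hy hg =>
    hgen ((hg _ (genericPoint_specializes y)).symm ▸ hy)
  have hCf : C.Finite := FinPicLib.finite_of_closed hdim (I'.support.isClosed.preimage E.subschemeι.continuous) hCgen
  have himg : E.subschemeι '' C = (I'.support : Set Y) := by
    rw [Set.image_preimage_eq_inter_range, E.range_subschemeι]
    exact Set.inter_eq_left.2 hsub
  refine ⟨himg ▸ hCf.image _, fun x hx => ?_⟩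
  obtain ⟨y, hy, rfl⟩ := himg.symm ▸ hx
  rw [← Set.image_singleton]
  refine E.subschemeι.isClosedEmbedding.isClosedMap _ (closure_subset_iff_isClosed.1 fun z hz => ?_)
  exact (FinPicLib.eq_of_specializes_of_not_isGen hdim (hCgen y hy) (specializes_iff_mem_closure.2 hz)).symm

include hA hb in
/-- A closed subset not containing the exceptional line meets it in finitely many closed points. -/
theorem finite_of_not_le (I' : X.IdealSheafData)
    (hsub : (I'.support : Set X) ⊆ b ⁻¹' {IsLocalRing.closedPoint A})
    (hnle : ¬ I' ≤ BlowUp.exceptional b (Curv2.idealSheaf A (IsLocalRing.maximalIdeal A))) :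
    (I'.support : Set X).Finite ∧ ∀ x ∈ (I'.support : Set X), IsClosed ({x} : Set X) := by
  obtain ⟨-, -, k, hk, ⟨e, -⟩⟩ := Groth.Agent.S7323.result A hA X b hb
  letI := hk
  haveI : IsProper b := isProper_ptBlow A b hb
  haveI : IsLocallyNoetherian X := LocallyOfFiniteType.isLocallyNoetherian b
  haveI : CompactSpace X := QuasiCompact.compactSpace_of_compactSpace b
  haveI : IsNoetherian X := {}
  exact finite_of_not_le_line _ I' k e.symm (by rw [support_exceptional A b hb]; exact hsub) hnle

include hb in
/-- Finitely many points lie in an affine open. -/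
theorem exists_affine_finite (T : Set X) (hT : T.Finite) : ∃ V : X.affineOpens, T ⊆ V.1 := by
  have hb' : BlowUp.IsFiniteTypeIdeal (Curv2.idealSheaf A (IsLocalRing.maximalIdeal A)) := fun U => by
    haveI := IsLocallyNoetherian.component_noetherian U
    exact IsNoetherian.noetherian _
  let U : X.Opens := b ⁻¹ᵁ ⊤
  have hamp := LichtLib.isAmple_exceptional hb hb' ⟨⊤, isAffineOpen_top _⟩
  obtain ⟨W, hW, hTW⟩ := AmpleThLib.exists_affineOpen_finset hamp
    ((hT.preimage (f := U.ι) U.ι.isEmbedding.injective.injOn).toFinset)
  refine ⟨⟨U.ι ''ᵁ W, hW.image_of_isOpenImmersion U.ι⟩, fun x hx => ⟨⟨x, trivial⟩, hTW _ ?_, rfl⟩⟩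
  rw [Set.Finite.mem_toFinset]
  exact hx

end PtBlowLib
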