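import Mathlib
import Groth.Prelude.Def_CurvBase
import Groth.Prelude.Def_BlowUp2
import Groth.Agent.SDivLib.Stalk
import Groth.Agent.DivDescLib.Local
import Groth.Agent.SurfAmpleLib.Divide
import Groth.Agent.IntTensorLib.Length
import Groth.Agent.LenInsepLib.Tensor
import Groth.Agent.BlowUpLib.Props
import Groth.Agent.InjHullLib.Matlis
import Groth.Agent.PtBlowLib.Surj

/-! Colengths of the stalks of an ideal sheaf. -/

set_option autoImplicit false
set_option linter.style.haveILetI false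
universe u

open CategoryTheory AlgebraicGeometry TopologicalSpace

namespace PtBlowLib

variable {X : Scheme.{u}}

/-- The length of the local ring of the subscheme cut out by an ideal at a point. -/
noncomputable def colen (I : X.IdealSheafData) (x : X) : ℕ∞ :=
  Module.length (↑(X.presheaf.stalk x) ⧸ IntMult.stalkIdeal I x) (↑(X.presheaf.stalk x) ⧸ IntMult.stalkIdeal I x)

theorem length_quot {R : Type u} [CommRing R] (K : Ideal R) :
    Module.length R (R ⧸ K) = Module.length (R ⧸ K) (R ⧸ K) :=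
  Module.length_eq_of_surjective Ideal.Quotient.mk_surjective

theorem stalkIdeal_vanishing_point (x : X) (hx : IsClosed ({x} : Set X)) :
    IntMult.stalkIdeal (Scheme.IdealSheafData.vanishingIdeal ⟨{x}, hx⟩) x =
      IsLocalRing.maximalIdeal (X.presheaf.stalk x) := by
  obtain ⟨U, hU, hxU, -⟩ := exists_isAffineOpen_mem_and_subset (x := x) (U := ⊤) trivial
  have hid : (Scheme.IdealSheafData.vanishingIdeal (⟨{x}, hx⟩ : Closeds X)).ideal ⟨U, hU⟩ = SDivLib.prm ⟨U, hU⟩ hxU := by
    rw [Scheme.IdealSheafData.vanishingIdeal_ideal]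
    refine (congrArg PrimeSpectrum.vanishingIdeal (?_ : hU.fromSpec ⁻¹' {x} = {hU.primeIdealOf ⟨x, hxU⟩})).trans
      (PrimeSpectrum.vanishingIdeal_singleton _)
    ext p
    simp only [Set.mem_preimage, Set.mem_singleton_iff]
    exact ⟨fun h => hU.fromSpec.isOpenEmbedding.injective (h.trans (hU.fromSpec_primeIdealOf ⟨x, hxU⟩).symm),
      fun h => h ▸ hU.fromSpec_primeIdealOf ⟨x, hxU⟩⟩
  letI := X.presheaf.algebra_section_stalk (⟨x, hxU⟩ : U)
  haveI hp : (SDivLib.prm ⟨U, hU⟩ hxU).IsPrime := SDivLib.prm_isPrime ⟨U, hU⟩ hxU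
  haveI : @IsLocalization.AtPrime Γ(X, U) _ (X.presheaf.stalk x) _ _ (SDivLib.prm ⟨U, hU⟩ hxU) hp :=
    hU.isLocalization_stalk ⟨x, hxU⟩
  rw [SDivLib.stalkIdeal_eq _ ⟨U, hU⟩ hxU, hid]
  exact IsLocalization.AtPrime.map_eq_maximalIdeal (SDivLib.prm ⟨U, hU⟩ hxU) (X.presheaf.stalk x)

theorem comap_fromSpecStalk (I : X.IdealSheafData) (x : X) :
    I.comap (X.fromSpecStalk x) = Curv2.idealSheaf (X.presheaf.stalk x) (IntMult.stalkIdeal I x) := by
  obtain ⟨U, hU, hxU, -⟩ := exists_isAffineOpen_mem_and_subset (x := x) (U := ⊤) trivial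
  have he : Spec.map (X.presheaf.germ U x hxU) ≫ hU.fromSpec = X.fromSpecStalk x :=
    IsAffineOpen.fromSpecStalk_eq_fromSpecStalk hU hxU
  rw [← he, Scheme.IdealSheafData.comap_comp]
  refine (congrArg (fun K => Scheme.IdealSheafData.comap K (Spec.map (X.presheaf.germ U x hxU)))
    (BlowUpLib.comap_fromSpec I ⟨U, hU⟩)).trans ?_
  refine (BlowUpLib.comap_specIdeal (A := Γ(X, U)) (B := X.presheaf.stalk x) (X.presheaf.germ U x hxU).hom _).trans ?_
  rw [SDivLib.stalkIdeal_eq I ⟨U, hU⟩ hxU]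
  rfl

/-- The stalk of an ideal at an isolated closed point of its support is primary. -/
theorem exists_pow_le [IsLocallyNoetherian X] (I : X.IdealSheafData) (x : X)
    (hx : ∀ y : X, y ∈ I.support → y ⤳ x → y = x) :
    ∃ n, IsLocalRing.maximalIdeal (X.presheaf.stalk x) ^ n ≤ IntMult.stalkIdeal I x := by
  refine Ideal.exists_pow_le_of_le_radical_of_fg ?_ (IsNoetherian.noetherian _)
  rw [Ideal.radical_eq_sInf]
  refine le_sInf fun p ⟨hp, hprime⟩ => ?_
  let P : PrimeSpectrum (X.presheaf.stalk x) := ⟨p, hprime⟩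
  have hsup : X.fromSpecStalk x P ∈ I.support := by
    have h1 : P ∈ ((I.comap (X.fromSpecStalk x)).support : Set (Spec (X.presheaf.stalk x))) := by
      rw [comap_fromSpecStalk]
      change P ∈ ((Curv2.idealSheaf (X.presheaf.stalk x) (IntMult.stalkIdeal I x)).support : Set (Spec (X.presheaf.stalk x)))
      erw [Scheme.IdealSheafData.coe_support_ofIdealTop, Spec_zeroLocus, ← Ideal.coe_comap,
        Ideal.comap_map_of_bijective _ (ConcreteCategory.bijective_of_isIso (Scheme.ΓSpecIso (X.presheaf.stalk x)).inv)]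
      exact hp
    rw [Scheme.IdealSheafData.support_comap] at h1
    exact h1
  have hsp : X.fromSpecStalk x P ⤳ x := by
    have : X.fromSpecStalk x P ∈ Set.range (X.fromSpecStalk x) := ⟨_, rfl⟩
    rwa [Scheme.range_fromSpecStalk] at this
  have hP : P = IsLocalRing.closedPoint _ := (X.fromSpecStalk x).isEmbedding.injective
    ((hx _ hsup hsp).trans Scheme.fromSpecStalk_closedPoint.symm)
  exact (congrArg PrimeSpectrum.asIdeal hP).ge

theorem colen_ne_top [IsLocallyNoetherian X] (I : X.IdealSheafData) (x : X)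
    (hx : ∀ y : X, y ∈ I.support → y ⤳ x → y = x) : colen I x ≠ ⊤ := by
  obtain ⟨n, hn⟩ := exists_pow_le I x hx
  rw [colen, ← length_quot, Module.length_ne_top_iff]
  exact (InjHullLib.isFiniteLength_quotient_pow (R := X.presheaf.stalk x)
    (m := IsLocalRing.maximalIdeal (X.presheaf.stalk x)) n).of_surjective (f := Submodule.factor hn)
    (Submodule.factor_surjective hn)

theorem colen_comap {Y : Scheme.{u}} (f : Y ⟶ X) (I : X.IdealSheafData) (y : Y)
    (hf : Function.Bijective (f.stalkMap y).hom) : colen (I.comap f) y = colen I (f y) := by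
  let e := RingEquiv.ofBijective (f.stalkMap y).hom hf
  refine (LenInsepLib.length_eq_of_ringEquiv (Ideal.quotientEquiv _ _ e ?_)).symm
  exact DivDescLib.stalkIdeal_comap f I y

theorem length_stalk_subscheme_eq (I : X.IdealSheafData) (z : I.subscheme) :
    Module.length (I.subscheme.presheaf.stalk z) (I.subscheme.presheaf.stalk z) = colen I (I.subschemeι z) := by
  have hk : RingHom.ker (I.subschemeι.stalkMap z).hom = IntMult.stalkIdeal I (I.subschemeι z) := by
    rw [IntTensorLib.ker_stalkMap_eq_stalkIdeal I.subschemeι z, I.ker_subschemeι]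
  exact (LenInsepLib.length_eq_of_ringEquiv ((Ideal.quotEquivOfEq hk.symm).trans
    (RingHom.quotientKerEquivOfSurjective (I.subschemeι.stalkMap_surjective z)))).symm

/-- Dividing by an effective Cartier ideal. -/
theorem exists_mul_eq [IsLocallyNoetherian X] {J C : X.IdealSheafData} (hC : BlowUp.IsEffCartierIdeal C)
    (hle : J ≤ C) : ∃ I' : X.IdealSheafData, J = I' * C := by
  refine ⟨SurfAmpleLib.quotData J C, DivDescLib.eq_of_stalk fun x => ?_⟩
  obtain ⟨V, hxV, π, hπ, hCV⟩ := hC x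
  rw [SDivLib.stalkIdeal_mul, SDivLib.stalkIdeal_eq J V hxV, SDivLib.stalkIdeal_eq (SurfAmpleLib.quotData J C) V hxV,
    SDivLib.stalkIdeal_eq C V hxV, ← Ideal.map_mul]
  congr 1
  change J.ideal V = SurfAmpleLib.quotIdeal (J.ideal V) (C.ideal V) * C.ideal V
  refine le_antisymm (fun a ha => ?_) (Ideal.mul_le.2 fun r hr c hc => hr c hc)
  obtain ⟨r, rfl⟩ := Ideal.mem_span_singleton'.1 (hCV ▸ hle V ha)
  refine Ideal.mul_mem_mul (fun c hc => ?_) (hCV ▸ Ideal.mem_span_singleton_self π)
  obtain ⟨s, rfl⟩ := Ideal.mem_span_singleton'.1 (hCV ▸ hc)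
  have := Ideal.mul_mem_left _ s ha
  rwa [show r * (s * π) = s * (r * π) by ring]

theorem stalkIdeal_mono {I J : X.IdealSheafData} (h : I ≤ J) (x : X) :
    IntMult.stalkIdeal I x ≤ IntMult.stalkIdeal J x := iSup₂_mono fun U _ => Ideal.map_mono (h U)

/-- A nonzero primary ideal lies in a largest power of an effective Cartier ideal. -/
theorem exists_max_pow [IsLocallyNoetherian X] {J C : X.IdealSheafData} (hC : BlowUp.IsEffCartierIdeal C)
    (z : X) (hz : z ∈ C.support) (n : ℕ) (hn : IntMult.stalkIdeal C z ^ n ≤ IntMult.stalkIdeal J z) :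
    ∃ d : ℕ, J ≤ C ^ d ∧ ¬ J ≤ C ^ (d + 1) := by
  classical
  have hlt : ¬ J ≤ C ^ (n + 1) := fun h => by
    obtain ⟨V, hzV, π, hπ, hCV⟩ := hC z
    letI := X.presheaf.algebra_section_stalk (⟨z, hzV⟩ : V.1)
    haveI : IsLocalization.AtPrime (X.presheaf.stalk z) (SDivLib.prm V hzV) := V.2.isLocalization_stalk ⟨z, hzV⟩
    have hπ' : (algebraMap Γ(X, V.1) (X.presheaf.stalk z) π) ∈ nonZeroDivisors (X.presheaf.stalk z) :=
      IsLocalization.map_nonZeroDivisors_le (SDivLib.prm V hzV).primeCompl _ (Submonoid.mem_map_of_mem _ hπ)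
    have hst : IntMult.stalkIdeal C z = Ideal.span {algebraMap Γ(X, V.1) (X.presheaf.stalk z) π} := by
      rw [SDivLib.stalkIdeal_eq C V hzV, hCV, Ideal.map_span, Set.image_singleton]
      rfl
    have h1 : IntMult.stalkIdeal C z ^ n ≤ IntMult.stalkIdeal C z ^ (n + 1) :=
      hn.trans ((stalkIdeal_mono h z).trans (SDivLib.stalkIdeal_pow C (n + 1) z).le)
    rw [hst, Ideal.span_singleton_pow, Ideal.span_singleton_pow, Ideal.span_singleton_le_span_singleton] at h1
    obtain ⟨c, hc⟩ := h1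
    have hu : IsUnit (algebraMap Γ(X, V.1) (X.presheaf.stalk z) π) := by
      refine IsUnit.of_mul_eq_one c ?_
      refine (mul_cancel_left_mem_nonZeroDivisors (pow_mem hπ' n)).1 ?_
      rw [mul_one, ← mul_assoc, ← pow_succ]
      exact hc.symm
    exact (SDivLib.mem_support_iff_stalk C z).1 hz (hst.trans (Ideal.span_singleton_eq_top.2 hu))
  have h0 : ∃ d, ¬ J ≤ C ^ (d + 1) := ⟨n, hlt⟩
  refine ⟨Nat.find h0, ?_, Nat.find_spec h0⟩
  rcases Nat.eq_zero_or_pos (Nat.find h0) with h | h
  · rw [h, pow_zero, Scheme.IdealSheafData.one_eq_top]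
    exact le_top
  · have := Nat.find_min h0 (Nat.sub_lt h one_pos)
    rw [not_not, Nat.sub_add_cancel (show 1 ≤ Nat.find h0 by omega)] at this
    exact this

end PtBlowLib
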