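import Mathlib
import Groth.Agent.PtBlowLib.PointBlow
import Groth.Agent.PtBlowLib.Colength
import Groth.Agent.PtBlowLib.Stalk
import Groth.Agent.BlowUpLib.Exists
import Groth.Agent.BlowRegLib.ExcPoint
import Groth.Agent.InjHullLib.Matlis
import Groth.Agent.AlgSpLib.ReducedStalk
import Groth.Agent.AlgSpRegLib.CartierMul
import Groth.Agent.S1624
import Groth.Agent.S8859

/-! One blowing up of a closed regular point of dimension two. -/

set_option autoImplicit false
set_option linter.style.haveILetI false
set_option maxHeartbeats 1000000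
set_option backward.isDefEq.respectTransparency false
set_option backward.isDefEq.respectTransparency.types false
universe u

open CategoryTheory CategoryTheory.Limits AlgebraicGeometry TopologicalSpace

namespace PtBlowLib

/-- Over an open where the morphism is an isomorphism, the local rings agree. -/
theorem bijective_stalkMap_of_isIso {X Y : Scheme.{u}} (f : X ⟶ Y) (U : Y.Opens) [IsIso (f ∣_ U)] (z : X)
    (hz : f z ∈ U) : Function.Bijective (f.stalkMap z).hom := by
  haveI : IsIso (f.stalkMap z) :=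
    ((MorphismProperty.isomorphisms CommRingCat.{u}).arrow_mk_iso_iff (morphismRestrictStalkMap f U ⟨z, hz⟩)).1
      (inferInstanceAs (IsIso _))
  exact ConcreteCategory.bijective_of_isIso (f.stalkMap z)

theorem injOn_of_isIso {X Y : Scheme.{u}} (f : X ⟶ Y) (U : Y.Opens) [IsIso (f ∣_ U)] :
    Set.InjOn f (f ⁻¹ᵁ U : Set X) := fun a ha b hb h => by
  have h' : (f ∣_ U) ⟨a, ha⟩ = (f ∣_ U) ⟨b, hb⟩ :=
    Subtype.ext ((morphismRestrict_base_coe f U ⟨a, ha⟩).trans (h.trans (morphismRestrict_base_coe f U ⟨b, hb⟩).symm))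
  exact congrArg Subtype.val ((f ∣_ U).homeomorph.injective h')

/-- Flat preimmersions have bijective maps on local rings. -/
theorem bijective_stalkMap_of_flat_preimmersion {X Y : Scheme.{u}} (q : X ⟶ Y) [Flat q] [IsPreimmersion q] (p : X) :
    Function.Bijective (q.stalkMap p).hom := by
  refine ⟨?_, q.stalkMap_surjective p⟩
  have hf : (q.stalkMap p).hom.Flat := Flat.stalkMap q p
  letI := (q.stalkMap p).hom.toAlgebra
  haveI : Module.Flat (Y.presheaf.stalk (q p)) (X.presheaf.stalk p) := hf
  haveI : IsLocalHom (algebraMap (Y.presheaf.stalk (q p)) (X.presheaf.stalk p)) :=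
    inferInstanceAs (IsLocalHom (q.stalkMap p).hom)
  haveI := Module.FaithfullyFlat.of_flat_of_isLocalHom (A := Y.presheaf.stalk (q p)) (B := X.presheaf.stalk p)
  exact FaithfulSMul.algebraMap_injective _ _

theorem stalkIdeal_ne_top {X : Scheme.{u}} (I : X.IdealSheafData) (x : X) (hx : x ∈ (I.support : Set X)) :
    IntMult.stalkIdeal I x ≠ ⊤ := (SDivLib.mem_support_iff_stalk I x).1 hx

theorem one_le_colen {X : Scheme.{u}} (I : X.IdealSheafData) (x : X) (hx : x ∈ (I.support : Set X)) :
    1 ≤ colen I x := by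
  haveI : Nontrivial (↑(X.presheaf.stalk x) ⧸ IntMult.stalkIdeal I x) :=
    Ideal.Quotient.nontrivial_iff.2 (stalkIdeal_ne_top I x hx)
  exact Order.one_le_iff_pos.2 Module.length_pos

theorem comap_pow {X Y : Scheme.{u}} (f : X ⟶ Y) (K : Y.IdealSheafData) (n : ℕ) : (K ^ n).comap f = K.comap f ^ n := by
  induction n with
  | zero => rw [pow_zero, pow_zero, Scheme.IdealSheafData.one_eq_top, Scheme.IdealSheafData.comap_top,
      Scheme.IdealSheafData.one_eq_top]
  | succ m ih => rw [pow_succ, pow_succ, BlowUpLib.comap_mul, ih]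

theorem isEffCartier_pow {X : Scheme.{u}} {K : X.IdealSheafData} (hK : BlowUp.IsEffCartierIdeal K) (n : ℕ) :
    BlowUp.IsEffCartierIdeal (K ^ n) := by
  induction n with
  | zero => rw [pow_zero, Scheme.IdealSheafData.one_eq_top]; exact EffCartLib.isEffCartier_top
  | succ m ih => rw [pow_succ]; exact AlgSpRegLib.isEffCartier_mul ih hK

variable {X : Scheme.{u}} [IsNoetherian X] {x : X} (hx : IsClosed ({x} : Set X))
  {X1 : Scheme.{u}} (b : X1 ⟶ X) (hb : BlowUp.IsBlowUp b (Scheme.IdealSheafData.vanishingIdeal ⟨{x}, hx⟩))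

include hb in
theorem isProper_b : IsProper b :=
  BlowUpLib.isProper_of_isBlowUp hb fun U => by
    haveI := IsLocallyNoetherian.component_noetherian U
    exact IsNoetherian.noetherian _

include hb in
theorem isNoetherian_b : IsNoetherian X1 := by
  haveI := isProper_b hx b hb
  exact {
    toIsLocallyNoetherian := LocallyOfFiniteType.isLocallyNoetherian b
    toCompactSpace := QuasiCompact.compactSpace_of_compactSpace b }

/-- The complement of the point. -/
def punct : X.Opens := ⟨({x} : Set X)ᶜ, hx.isOpen_compl⟩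

include hb in
theorem isIso_punct : IsIso (b ∣_ punct hx) :=
  EffCartLib.isIso_off_center _ b hb _ fun y hy hy' => by
    rw [Scheme.IdealSheafData.coe_support_vanishingIdeal] at hy'
    exact hy hy'

theorem mem_support_exc (z : X1) :
    z ∈ (((Scheme.IdealSheafData.vanishingIdeal (⟨{x}, hx⟩ : Closeds X)).comap b).support : Set X1) ↔ b z = x := by
  rw [Scheme.IdealSheafData.support_comap]
  show b z ∈ ((Scheme.IdealSheafData.vanishingIdeal (⟨{x}, hx⟩ : Closeds X)).support : Set X) ↔ _
  rw [Scheme.IdealSheafData.coe_support_vanishingIdeal]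
  exact Set.mem_singleton_iff

include hb in
/-- The exceptional divisor is an exceptional curve of the first kind. -/
theorem exc_data [IsRegularLocalRing (X.presheaf.stalk x)] (hd : ringKrullDim (X.presheaf.stalk x) = 2) :
    ∃ (k : Type u) (_ : Field k) (e : CohB1.ProjSpace 1 k ≅ ((Scheme.IdealSheafData.vanishingIdeal (⟨{x}, hx⟩ : Closeds X)).comap b).subscheme),
      Nonempty ((Scheme.Modules.pullback (e.hom ≫ ((Scheme.IdealSheafData.vanishingIdeal (⟨{x}, hx⟩ : Closeds X)).comap b).subschemeι)).obj
        (ClSub.idealMod ((Scheme.IdealSheafData.vanishingIdeal (⟨{x}, hx⟩ : Closeds X)).comap b)) ≅ Twist.twistProjSpace 1 k 1) := by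
  obtain ⟨φ, hφ, -, ⟨c⟩⟩ := BlowRegLib.exc_point x hx 1 (hd.trans (by norm_num)) hb
  haveI := hφ
  refine ⟨X.residueField x, inferInstance, (asIso φ).symm, ⟨?_⟩⟩
  exact (Scheme.Modules.pullbackComp (inv φ) _).symm.app _ ≪≫ (Scheme.Modules.pullback (inv φ)).mapIso c.symm ≪≫
    (Scheme.Modules.pullbackComp (inv φ) φ).app _ ≪≫ (Scheme.Modules.pullbackCongr (IsIso.inv_hom_id φ)).app _ ≪≫
    (Scheme.Modules.pullbackId _).app _

include hb in
theorem exists_over_point [IsRegularLocalRing (X.presheaf.stalk x)] (hd : ringKrullDim (X.presheaf.stalk x) = 2) :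
    ∃ z : X1, b z = x := by
  obtain ⟨k, hk, e, -⟩ := exc_data hx b hb hd
  letI := hk
  haveI : IsIntegral (CohB1.ProjSpace 1 k) := GenusZeroLib.isIntegral_projSpace k 1
  refine ⟨((Scheme.IdealSheafData.vanishingIdeal (⟨{x}, hx⟩ : Closeds X)).comap b).subschemeι
    (e.hom (genericPoint (CohB1.ProjSpace 1 k))), (mem_support_exc hx b _).1 ?_⟩
  rw [← Scheme.IdealSheafData.range_subschemeι]
  exact ⟨_, rfl⟩

include hb in
/-- The blowing up of a point is a contraction step. -/
theorem contractionSeq_comp [IsRegularLocalRing (X.presheaf.stalk x)] (hd : ringKrullDim (X.presheaf.stalk x) = 2)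
    {W : Scheme.{u}} (r : X ⟶ W) (hr : Models.IsContractionSeq r) : Models.IsContractionSeq (b ≫ r) := by
  obtain ⟨k, hk, e, hc⟩ := exc_data hx b hb hd
  letI := hk
  obtain ⟨z, hz⟩ := exists_over_point hx b hb hd
  refine Models.IsContractionSeq.step ((Scheme.IdealSheafData.vanishingIdeal (⟨{x}, hx⟩ : Closeds X)).comap b).subschemeι b r
    inferInstance ⟨?_, k, hk, e, ?_⟩ ⟨inferInstance, isProper_b hx b hb, x, hx, ?_, inferInstance, hd, hb⟩ hr
  · rw [Scheme.IdealSheafData.ker_subschemeι]
    exact hb.1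
  · rw [Scheme.IdealSheafData.ker_subschemeι]
    exact hc
  · ext y
    simp only [Set.mem_range, Set.mem_singleton_iff]
    constructor
    · rintro ⟨w, rfl⟩
      refine (mem_support_exc hx b _).1 ?_
      rw [← Scheme.IdealSheafData.range_subschemeι]
      exact ⟨w, rfl⟩
    · rintro rfl
      have : z ∈ Set.range ((Scheme.IdealSheafData.vanishingIdeal (⟨{y}, hx⟩ : Closeds X)).comap b).subschemeι := by
        rw [Scheme.IdealSheafData.range_subschemeι]
        exact (mem_support_exc hx b z).2 hz
      obtain ⟨w, hw⟩ := this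
      exact ⟨w, (congrArg b.base hw).trans hz⟩

include hb in
theorem isBlowUp_spec :
    BlowUp.IsBlowUp (pullback.snd b (X.fromSpecStalk x) : _ ⟶ Spec (CommRingCat.of (X.presheaf.stalk x)))
      (Curv2.idealSheaf (X.presheaf.stalk x) (IsLocalRing.maximalIdeal (X.presheaf.stalk x))) := by
  haveI := AlgSpLib.flat_fromSpecStalk x
  have h := BlowUpLib.isBlowUp_of_isPullback (IsPullback.of_hasPullback b (X.fromSpecStalk x)) hb
  rw [comap_fromSpecStalk, stalkIdeal_vanishing_point x hx] at h
  exact h

include hb in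
/-- Closed points over the centre are regular of dimension two. -/
theorem point_new [IsRegularLocalRing (X.presheaf.stalk x)] (hd : ringKrullDim (X.presheaf.stalk x) = 2)
    (z : X1) (hz : b z = x) (hzc : IsClosed ({z} : Set X1)) :
    IsRegularLocalRing (X1.presheaf.stalk z) ∧ ringKrullDim (X1.presheaf.stalk z) = 2 := by
  classical
  let g := X.fromSpecStalk x
  haveI := AlgSpLib.flat_fromSpecStalk x
  let q := pullback.fst b g
  let fP : pullback b g ⟶ Spec (CommRingCat.of (X.presheaf.stalk x)) := pullback.snd b g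
  have hfP := isBlowUp_spec hx b hb
  obtain ⟨p, hp, -⟩ := Scheme.Pullback.exists_preimage_pullback (f := b) (g := g) z
    (IsLocalRing.closedPoint _) (hz.trans Scheme.fromSpecStalk_closedPoint.symm)
  subst hp
  haveI : Flat q := inferInstance
  haveI : IsPreimmersion q := inferInstance
  let eq := RingEquiv.ofBijective _ (bijective_stalkMap_of_flat_preimmersion q p)
  obtain ⟨-, hreg⟩ := Groth.Agent.S1622.result _ hd _ fP hfP
  haveI hregp := hreg p
  haveI hregz : IsRegularLocalRing (X1.presheaf.stalk (q p)) := IsRegularLocalRing.of_ringEquiv eq.symm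
  refine ⟨hregz, le_antisymm ?_ ?_⟩
  · haveI := isIntegral_ptBlow _ hd fP hfP
    haveI := isProper_ptBlow _ fP hfP
    haveI : IsDomain (X.presheaf.stalk x) := CommAlgDim.isDomain_of_isRegularLocalRing _
    haveI : IsIntegral (Spec (CommRingCat.of (X.presheaf.stalk x))) := inferInstance
    obtain ⟨U, hU, hUi⟩ := exists_iso_open _ hd fP hfP
    haveI := hUi
    rw [ringKrullDim_eq_of_ringEquiv eq]
    refine (ModifLib.stalk_dim_le fP hU p).trans ?_
    refine le_of_le_of_eq ?_ hd
    exact (DimIneqLib.stalk_dim_le_dim (fP p)).trans (PrimeSpectrum.topologicalKrullDim_eq_ringKrullDim _).le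
  · obtain ⟨k, hk, e, -⟩ := exc_data hx b hb hd
    letI := hk
    let E := (Scheme.IdealSheafData.vanishingIdeal (⟨{x}, hx⟩ : Closeds X)).comap b
    haveI : IsIntegral (CohB1.ProjSpace 1 k) := GenusZeroLib.isIntegral_projSpace k 1
    haveI : Nonempty E.subscheme := ⟨e.hom (genericPoint (CohB1.ProjSpace 1 k))⟩
    haveI : IsIntegral E.subscheme := isIntegral_of_isOpenImmersion e.symm.hom
    have hzE : q p ∈ Set.range E.subschemeι := by
      rw [Scheme.IdealSheafData.range_subschemeι]
      exact (mem_support_exc hx b _).2 hz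
    obtain ⟨w, hw⟩ := hzE
    let η := E.subschemeι (genericPoint E.subscheme)
    have hηz : η ⤳ q p := hw ▸ (genericPoint_specializes w).map E.subschemeι.continuous
    have hne : η ≠ q p := fun h => by
      have hall : ∀ a : E.subscheme, a = w := fun a => E.subschemeι.isEmbedding.injective <| by
        have h1 : q p ⤳ E.subschemeι a := h ▸ (genericPoint_specializes a).map E.subschemeι.continuous
        rw [hw]
        exact Set.mem_singleton_iff.1 (h1.mem_closed hzc rfl)
      haveI : Subsingleton E.subscheme := ⟨fun a a' => (hall a).trans (hall a').symm⟩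
      haveI : DiscreteTopology E.subscheme := Subsingleton.discreteTopology
      have h0 : topologicalKrullDim E.subscheme ≤ 0 := topologicalKrullDim_zero_of_discreteTopology _
      rw [IsHomeomorph.topologicalKrullDim_eq _ e.symm.hom.homeomorph.isHomeomorph, GenusZeroLib.dim_projSpace] at h0
      exact absurd h0 (by norm_num)
    haveI : IsDomain (X1.presheaf.stalk (q p)) := CommAlgDim.isDomain_of_isRegularLocalRing _
    obtain ⟨P, hP⟩ : η ∈ Set.range (X1.fromSpecStalk (q p)) := by
      rw [Scheme.range_fromSpecStalk]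
      exact hηz
    have hPm : P ≠ IsLocalRing.closedPoint _ := fun h => hne (by rw [← hP, h, Scheme.fromSpecStalk_closedPoint])
    have hP0 : P.asIdeal ≠ ⊥ := fun h => by
      have h1 : P ∈ ((E.comap (X1.fromSpecStalk (q p))).support : Set (Spec (X1.presheaf.stalk (q p)))) := by
        rw [Scheme.IdealSheafData.support_comap]
        show X1.fromSpecStalk (q p) P ∈ (E.support : Set X1)
        rw [hP, ← Scheme.IdealSheafData.range_subschemeι]
        exact ⟨_, rfl⟩
      rw [comap_fromSpecStalk] at h1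
      have h2 : P ∈ PrimeSpectrum.zeroLocus (IntMult.stalkIdeal E (q p) : Set (X1.presheaf.stalk (q p))) :=
        coe_support_idealSheaf (A := X1.presheaf.stalk (q p)) (IntMult.stalkIdeal E (q p)) ▸ h1
      obtain ⟨V, hzV, π, hπ, hEV⟩ := hb.1 (q p)
      letI := X1.presheaf.algebra_section_stalk (⟨q p, hzV⟩ : V.1)
      haveI : IsLocalization.AtPrime (X1.presheaf.stalk (q p)) (SDivLib.prm V hzV) := V.2.isLocalization_stalk ⟨q p, hzV⟩
      have hπ' : (algebraMap Γ(X1, V.1) (X1.presheaf.stalk (q p)) π) ∈ nonZeroDivisors (X1.presheaf.stalk (q p)) :=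
        IsLocalization.map_nonZeroDivisors_le (SDivLib.prm V hzV).primeCompl _ (Submonoid.mem_map_of_mem _ hπ)
      refine nonZeroDivisors.ne_zero hπ' ?_
      rw [← Ideal.mem_bot, ← h]
      refine h2 ?_
      rw [SDivLib.stalkIdeal_eq E V hzV]
      exact Ideal.mem_map_of_mem _ (hEV ▸ Ideal.mem_span_singleton_self π)
    let a : PrimeSpectrum (X1.presheaf.stalk (q p)) := ⟨⊥, Ideal.isPrime_bot⟩
    have h01 : a < P := lt_of_le_of_ne (show (⊥ : Ideal _) ≤ P.asIdeal from bot_le) fun h => hP0 (congrArg PrimeSpectrum.asIdeal h).symm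
    have h12 : @LT.lt (PrimeSpectrum (X1.presheaf.stalk (q p))) _ P (IsLocalRing.closedPoint _) :=
      lt_of_le_of_ne (IsLocalRing.le_maximalIdeal P.isPrime.ne_top) fun h => hPm h
    let s : LTSeries (PrimeSpectrum (X1.presheaf.stalk (q p))) :=
      ((RelSeries.singleton _ a).snoc P h01).snoc (IsLocalRing.closedPoint _) (by simpa using h12)
    exact (show ((2 : ℕ) : WithBot ℕ∞) ≤ _ from Order.LTSeries.length_le_krullDim s).trans_eq' (by norm_num)

variable (I : X.IdealSheafData)

omit [AlgebraicGeometry.IsNoetherian X] in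
theorem colen_congr {Y : Scheme.{u}} {I J : Y.IdealSheafData} {z : Y}
    (h : IntMult.stalkIdeal I z = IntMult.stalkIdeal J z) : colen I z = colen J z := by
  unfold colen
  rw [h]

include hb in
open Classical in
/-- The colength over the centre goes down. -/
theorem sum_over_point [IsRegularLocalRing (X.presheaf.stalk x)] (hd : ringKrullDim (X.presheaf.stalk x) = 2)
    (n : ℕ) (hn : IsLocalRing.maximalIdeal (X.presheaf.stalk x) ^ n ≤ IntMult.stalkIdeal I x)
    (I' : X1.IdealSheafData) (d : ℕ) (hd0 : 0 < d)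
    (hI' : I.comap b = I' * ((Scheme.IdealSheafData.vanishingIdeal (⟨{x}, hx⟩ : Closeds X)).comap b) ^ d)
    (hf : (I'.support : Set X1).Finite) (hc : ∀ z ∈ (I'.support : Set X1), IsClosed ({z} : Set X1)) :
    ∑ z ∈ hf.toFinset.filter (fun z => b z = x), colen I' z < colen I x := by
  let g := X.fromSpecStalk x
  haveI := AlgSpLib.flat_fromSpecStalk x
  let q := pullback.fst b g
  let fP : pullback b g ⟶ Spec (CommRingCat.of (X.presheaf.stalk x)) := pullback.snd b g
  letI : (pullback b g).Over (Spec (CommRingCat.of (X.presheaf.stalk x))) := ⟨fP⟩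
  have hfP := isBlowUp_spec hx b hb
  haveI : Flat q := inferInstance
  haveI : IsPreimmersion q := inferInstance
  haveI := isIntegral_ptBlow _ hd fP hfP
  haveI := isProper_ptBlow _ fP hfP
  haveI : IsLocallyNoetherian (pullback b g) := LocallyOfFiniteType.isLocallyNoetherian fP
  let EP := BlowUp.exceptional fP (Curv2.idealSheaf (X.presheaf.stalk x) (IsLocalRing.maximalIdeal (X.presheaf.stalk x)))
  let K := IntMult.stalkIdeal I x
  have hEP : EP = ((Scheme.IdealSheafData.vanishingIdeal (⟨{x}, hx⟩ : Closeds X)).comap b).comap q := by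
    show Scheme.IdealSheafData.comap _ fP = _
    rw [← stalkIdeal_vanishing_point x hx, ← Scheme.IdealSheafData.comap_comp, pullback.condition,
      Scheme.IdealSheafData.comap_comp, comap_fromSpecStalk]
  have hJP : (Curv2.idealSheaf (X.presheaf.stalk x) K).comap fP = I'.comap q * EP ^ d := by
    rw [hEP, ← comap_pow, ← BlowUpLib.comap_mul, ← hI', ← Scheme.IdealSheafData.comap_comp, pullback.condition,
      Scheme.IdealSheafData.comap_comp, comap_fromSpecStalk]
  have hsq : ((I'.comap q).support : Set ↥(pullback b g)) = q ⁻¹' (I'.support : Set X1) := by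
    rw [Scheme.IdealSheafData.support_comap]
    rfl
  have hfq : ((I'.comap q).support : Set ↥(pullback b g)).Finite :=
    hsq ▸ hf.preimage q.isEmbedding.injective.injOn
  have hcq : ∀ p ∈ ((I'.comap q).support : Set ↥(pullback b g)), IsClosed ({p} : Set ↥(pullback b g)) := fun p hp => by
    have h : ({p} : Set ↥(pullback b g)) = q ⁻¹' {q p} := by
      rw [← Set.image_singleton, q.isEmbedding.injective.preimage_image]
    rw [h]
    exact (hc _ (hsq ▸ hp : p ∈ q ⁻¹' (I'.support : Set X1))).preimage q.continuous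
  obtain ⟨V₀, hV₀⟩ := exists_affine_finite _ fP hfP _ hfq
  obtain ⟨z₀, hz₀⟩ := exists_over_point hx b hb hd
  have hEne : (EP.support : Set ↥(pullback b g)).Nonempty := by
    rw [support_exceptional _ fP hfP]
    obtain ⟨p, -, hp⟩ := Scheme.Pullback.exists_preimage_pullback (f := b) (g := g) z₀ (IsLocalRing.closedPoint _)
      (hz₀.trans Scheme.fromSpecStalk_closedPoint.symm)
    exact ⟨p, hp⟩
  have hH1 : Subsingleton (Coh.HH (pullback b g) (ClSub.idealMod ((Curv2.idealSheaf (X.presheaf.stalk x) K).comap fP)) 1) :=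
    Groth.Agent.S1624.result _ hd _ fP hfP _ (SweepSix.ConormalSpec.isQCoh_idealMod _) (isGloballyGenerated_comap fP K)
  have hKlen : IsFiniteLength (X.presheaf.stalk x) (↑(X.presheaf.stalk x) ⧸ K) :=
    (InjHullLib.isFiniteLength_quotient_pow (R := X.presheaf.stalk x) (m := IsLocalRing.maximalIdeal (X.presheaf.stalk x)) n).of_surjective
      (f := Submodule.factor hn) (Submodule.factor_surjective hn)
  obtain ⟨h1, h2⟩ := length_lt_and_sum_le (A := X.presheaf.stalk x) K hKlen EP hfP.1 hEne d hd0 (I'.comap q) hJP hH1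
    (toGlobal_surjective_ptBlow _ hd fP hfP) hfq hcq V₀ hV₀
  refine lt_of_le_of_lt ?_ ((h2.trans_lt h1).trans_eq (length_quot K))
  haveI : Finite (I'.comap q).subscheme := by
    haveI := hfq.to_subtype
    exact Finite.of_injective (fun w => (⟨(I'.comap q).subschemeι w, (I'.comap q).range_subschemeι ▸ Set.mem_range_self w⟩ :
        ((I'.comap q).support : Set ↥(pullback b g))))
      fun a c h => (I'.comap q).subschemeι.isEmbedding.injective (congrArg Subtype.val h)
  letI : Fintype (I'.comap q).subscheme := Fintype.ofFinite _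
  rw [finsum_eq_sum_of_fintype]
  let ψ : (I'.comap q).subscheme → X1 := fun w => q ((I'.comap q).subschemeι w)
  have hψ : Function.Injective ψ := fun a c h => (I'.comap q).subschemeι.isEmbedding.injective (q.isEmbedding.injective h)
  refine le_trans (Finset.sum_le_sum_of_subset (t := Finset.univ.image ψ) fun z hz => ?_) (le_of_eq ?_)
  · obtain ⟨hz, hbz⟩ := Finset.mem_filter.1 hz
    obtain ⟨p, rfl, -⟩ := Scheme.Pullback.exists_preimage_pullback (f := b) (g := g) z (IsLocalRing.closedPoint _)
      (hbz.trans Scheme.fromSpecStalk_closedPoint.symm)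
    have hp : p ∈ Set.range (I'.comap q).subschemeι := by
      rw [Scheme.IdealSheafData.range_subschemeι, hsq]
      exact hf.mem_toFinset.1 hz
    obtain ⟨w, rfl⟩ := hp
    exact Finset.mem_image.2 ⟨w, Finset.mem_univ _, rfl⟩
  · rw [Finset.sum_image fun a _ c _ h => hψ h]
    exact Finset.sum_congr rfl fun w _ => ((length_stalk_subscheme_eq (I'.comap q) w).trans
      (colen_comap q I' _ (bijective_stalkMap_of_flat_preimmersion q _))).symm

include hb in
/-- The colength goes down. -/
theorem exists_split [IsRegularLocalRing (X.presheaf.stalk x)] (hd : ringKrullDim (X.presheaf.stalk x) = 2)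
    (hIf : (I.support : Set X).Finite) (hIc : ∀ y ∈ (I.support : Set X), IsClosed ({y} : Set X))
    (hxI : x ∈ (I.support : Set X)) :
    ∃ (d : ℕ) (I' : X1.IdealSheafData),
      I.comap b = I' * ((Scheme.IdealSheafData.vanishingIdeal (⟨{x}, hx⟩ : Closeds X)).comap b) ^ d ∧
      ∃ hf : (I'.support : Set X1).Finite, (∀ z ∈ (I'.support : Set X1), IsClosed ({z} : Set X1)) ∧
        ((I'.support : Set X1) ⊆ b ⁻¹' (I.support : Set X)) ∧
        (∑ z ∈ hf.toFinset, colen I' z) < ∑ y ∈ hIf.toFinset, colen I y := by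
  classical
  haveI := isNoetherian_b hx b hb
  haveI := isProper_b hx b hb
  haveI := isIso_punct hx b hb
  obtain ⟨k, hk, e, -⟩ := exc_data hx b hb hd
  letI := hk
  let 𝓙 := Scheme.IdealSheafData.vanishingIdeal (⟨{x}, hx⟩ : Closeds X)
  let E := 𝓙.comap b
  have hiso : ∀ y ∈ (I.support : Set X), ∀ y' : X, y' ∈ I.support → y' ⤳ y → y' = y := fun y _ y' hy' hsp =>
    (Set.mem_singleton_iff.1 (hsp.mem_closed (hIc y' hy') rfl)).symm
  obtain ⟨n, hn⟩ := exists_pow_le I x (hiso x hxI)
  obtain ⟨z₀, hz₀⟩ := exists_over_point hx b hb hd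
  have hst : IntMult.stalkIdeal E z₀ ^ n ≤ IntMult.stalkIdeal (I.comap b) z₀ := by
    rw [DivDescLib.stalkIdeal_comap, DivDescLib.stalkIdeal_comap, ← Ideal.map_pow]
    refine Ideal.map_mono ?_
    subst hz₀
    rw [stalkIdeal_vanishing_point _ hx]
    exact hn
  obtain ⟨d, hle, hnle⟩ := exists_max_pow (J := I.comap b) hb.1 z₀ ((mem_support_exc hx b z₀).2 hz₀) n hst
  obtain ⟨I', hI'⟩ := exists_mul_eq (isEffCartier_pow hb.1 d) hle
  have hJI' : I.comap b ≤ I' := by
    intro U
    rw [hI', Scheme.IdealSheafData.ideal_mul, Pi.mul_apply]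
    exact Ideal.mul_le_left
  have hd0 : 0 < d := by
    rcases Nat.eq_zero_or_pos d with rfl | h
    · refine absurd ?_ hnle
      rw [zero_add, pow_one]
      exact Scheme.IdealSheafData.comap_mono b
        (Scheme.IdealSheafData.le_support_iff_le_vanishingIdeal.1 (Set.singleton_subset_iff.2 hxI))
    · exact h
  have hnle' : ¬ I' ≤ E := fun h => hnle <| by
    intro U
    rw [hI', Scheme.IdealSheafData.ideal_mul, Pi.mul_apply, Scheme.IdealSheafData.ideal_pow,
      Scheme.IdealSheafData.ideal_pow, Pi.pow_apply, Pi.pow_apply, pow_succ']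
    exact Ideal.mul_mono (h U) le_rfl
  have hsub : (I'.support : Set X1) ⊆ b ⁻¹' (I.support : Set X) := by
    intro z hz
    have h := Scheme.IdealSheafData.support_antitone hJI' hz
    rw [Scheme.IdealSheafData.support_comap] at h
    exact h
  have hsupE : ((I' ⊔ E).support : Set X1) = (I'.support : Set X1) ∩ E.support := by
    rw [Scheme.IdealSheafData.support_sup]
    rfl
  obtain ⟨hfE, hcE⟩ := finite_of_not_le_line E (I' ⊔ E) k e.symm (hsupE ▸ Set.inter_subset_right)
    (fun h => hnle' (le_sup_left.trans h))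
  have hinj := injOn_of_isIso b (punct hx)
  have hoff : ∀ z, z ∉ (E.support : Set X1) → z ∈ (b ⁻¹ᵁ punct hx : Set X1) := fun z hz h =>
    hz ((mem_support_exc hx b z).2 h)
  have hf2 : ((I'.support : Set X1) \ (E.support : Set X1)).Finite :=
    Set.Finite.of_finite_image (f := b) (hIf.subset (by rintro _ ⟨z, hz, rfl⟩; exact hsub hz.1))
      (hinj.mono fun z hz => hoff z hz.2)
  have hf : (I'.support : Set X1).Finite := (hfE.union hf2).subset fun z hz => by
    by_cases h : z ∈ (E.support : Set X1)
    · exact Or.inl (hsupE.symm ▸ ⟨hz, h⟩)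
    · exact Or.inr ⟨hz, h⟩
  have hc : ∀ z ∈ (I'.support : Set X1), IsClosed ({z} : Set X1) := fun z hz => by
    by_cases h : z ∈ (E.support : Set X1)
    · exact hcE z (hsupE.symm ▸ ⟨hz, h⟩)
    · have hbz : b z ≠ x := fun h' => h ((mem_support_exc hx b z).2 h')
      have : ({z} : Set X1) = b ⁻¹' {b z} := by
        ext w
        refine ⟨fun hw => congrArg b.base hw, fun hw => hinj ?_ (hoff z h) hw⟩
        exact fun h' => hbz ((Set.mem_singleton_iff.1 hw).symm.trans h')
      rw [this]
      exact (hIc _ (hsub hz)).preimage b.continuous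
  refine ⟨d, I', hI', hf, hc, hsub, ?_⟩
  rw [← Finset.sum_filter_add_sum_filter_not hf.toFinset (fun z => b z = x), ← Finset.add_sum_erase hIf.toFinset (colen I) (hIf.mem_toFinset.2 hxI)]
  have h2 : ∑ z ∈ hf.toFinset.filter (fun z => ¬ b z = x), colen I' z ≤ ∑ y ∈ hIf.toFinset.erase x, colen I y := by
    have heq : ∀ z ∈ hf.toFinset.filter (fun z => ¬ b z = x), colen I' z = colen I (b z) := fun z hz => by
      have hbz : ¬ b z = x := (Finset.mem_filter.1 hz).2
      rw [← colen_comap b I z (bijective_stalkMap_of_isIso b (punct hx) z hbz)]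
      refine colen_congr ?_
      have hE1 : IntMult.stalkIdeal E z = ⊤ := of_not_not fun h =>
        hbz ((mem_support_exc hx b z).1 ((SDivLib.mem_support_iff_stalk E z).2 h))
      rw [hI', SDivLib.stalkIdeal_mul, SDivLib.stalkIdeal_pow, hE1, Ideal.top_pow, Ideal.mul_top]
    rw [Finset.sum_congr rfl heq, ← Finset.sum_image (g := fun z => b z) (f := colen I)
      (s := hf.toFinset.filter (fun z => ¬ b z = x))
      fun a ha c hc' h => hinj (show b a ≠ x from (Finset.mem_filter.1 ha).2) (show b c ≠ x from (Finset.mem_filter.1 hc').2) h]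
    refine Finset.sum_le_sum_of_subset fun y hy => ?_
    obtain ⟨z, hz, rfl⟩ := Finset.mem_image.1 hy
    exact Finset.mem_erase.2 ⟨(Finset.mem_filter.1 hz).2, hIf.mem_toFinset.2 (hsub (hf.mem_toFinset.1 (Finset.mem_filter.1 hz).1))⟩
  have hne : ∑ y ∈ hIf.toFinset.erase x, colen I y ≠ ⊤ := WithTop.sum_ne_top.2 fun y hy =>
    colen_ne_top I y (hiso y (hIf.mem_toFinset.1 (Finset.mem_of_mem_erase hy)))
  exact lt_of_le_of_lt (add_le_add le_rfl h2)
    ((ENat.add_lt_add_iff_right hne).2 (sum_over_point hx b hb I hd n hn I' d hd0 hI' hf hc))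

end PtBlowLib
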