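import Mathlib
import Groth.Agent.PtBlowLib.Step
import Groth.Agent.ModifLib.Join

/-! Principalization by blowing up points. -/

set_option autoImplicit false
set_option linter.style.haveILetI false
set_option backward.isDefEq.respectTransparency false
set_option backward.isDefEq.respectTransparency.types false
universe u

open CategoryTheory CategoryTheory.Limits AlgebraicGeometry TopologicalSpace

namespace PtBlowLib

/-- The regular surface points. -/
def RegTwo (X : Scheme.{u}) (x : X) : Prop :=
  IsClosed ({x} : Set X) ∧ IsRegularLocalRing (X.presheaf.stalk x) ∧ ringKrullDim (X.presheaf.stalk x) = 2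

/-- A composite of point blow-ups resolving an ideal. -/
def Resolves {X : Scheme.{u}} (I : X.IdealSheafData) {X' : Scheme.{u}} (g : X' ⟶ X) : Prop :=
  (∀ {W : Scheme.{u}} (r : X ⟶ W), Models.IsContractionSeq r → Models.IsContractionSeq (g ≫ r)) ∧
    (∀ U : X.Opens, Disjoint (U : Set X) (I.support : Set X) → IsIso (g ∣_ U)) ∧
    BlowUp.IsEffCartierIdeal (I.comap g) ∧
    ∀ D : X.IdealSheafData, BlowUp.IsEffCartierIdeal D → BlowUp.IsEffCartierIdeal (D.comap g)

theorem resolves_id {X : Scheme.{u}} {I : X.IdealSheafData} (hI : (I.support : Set X) = ∅) : Resolves I (𝟙 X) := by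
  have htop : I = ⊤ := (Scheme.IdealSheafData.support_eq_bot_iff I).1 (Closeds.ext hI)
  refine ⟨fun r hr => by rwa [Category.id_comp], fun U _ => inferInstance, ?_, fun D hD => ?_⟩
  · rw [htop, Scheme.IdealSheafData.comap_top]
    exact EffCartLib.isEffCartier_top
  · rwa [Scheme.IdealSheafData.comap_id]

theorem principalize_aux : ∀ (n : ℕ) (X : Scheme.{u}) [IsNoetherian X] (I : X.IdealSheafData)
    (hf : (I.support : Set X).Finite), (∀ x ∈ (I.support : Set X), RegTwo X x) →
    ∑ y ∈ hf.toFinset, colen I y ≤ (n : ℕ∞) → ∃ (X' : Scheme.{u}) (g : X' ⟶ X), Resolves I g := by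
  intro n
  induction n with
  | zero =>
    intro X _ I hf _ hsum
    refine ⟨X, 𝟙 X, resolves_id (Set.eq_empty_of_forall_notMem fun x hx => ?_)⟩
    have := (one_le_colen I x hx).trans ((Finset.single_le_sum (fun _ _ => zero_le) (hf.mem_toFinset.2 hx)).trans hsum)
    simp at this
  | succ n ih =>
    intro X _ I hf h hsum
    rcases (I.support : Set X).eq_empty_or_nonempty with he | ⟨x, hxI⟩
    · exact ⟨X, 𝟙 X, resolves_id he⟩
    obtain ⟨hx, hreg, hd⟩ := h x hxI
    haveI := hreg
    obtain ⟨X1, b, hb⟩ := Groth.Agent.S8859.result X (Scheme.IdealSheafData.vanishingIdeal ⟨{x}, hx⟩)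
    haveI := isNoetherian_b hx b hb
    obtain ⟨d, I', hI', hf', hc', hsub, hlt⟩ := exists_split hx b hb I hd hf (fun y hy => (h y hy).1) hxI
    have hreg' : ∀ z ∈ (I'.support : Set X1), RegTwo X1 z := fun z hz => by
      refine ⟨hc' z hz, ?_⟩
      by_cases hbz : b z = x
      · exact point_new hx b hb hd z hbz (hc' z hz)
      · haveI := isIso_punct hx b hb
        let e := RingEquiv.ofBijective _ (bijective_stalkMap_of_isIso b (punct hx) z hbz)
        obtain ⟨-, hr, hdim⟩ := h (b z) (hsub hz)
        haveI := hr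
        exact ⟨IsRegularLocalRing.of_ringEquiv e, (ringKrullDim_eq_of_ringEquiv e).symm.trans hdim⟩
    have hsum' : ∑ z ∈ hf'.toFinset, colen I' z ≤ (n : ℕ∞) := by
      have := hlt.trans_le hsum
      rw [Nat.cast_succ] at this
      exact ENat.lt_add_one_iff (ENat.natCast_ne_top n) |>.1 this
    obtain ⟨X', g, hs, hiso, hI'g, hD⟩ := ih X1 I' hf' hreg' hsum'
    refine ⟨X', g ≫ b, fun r hr => ?_, fun U hU => ?_, ?_, fun D hD' => ?_⟩
    · rw [Category.assoc]
      exact hs _ (contractionSeq_comp hx b hb hd r hr)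
    · haveI := isIso_punct hx b hb
      haveI : IsIso (b ∣_ U) := ModifLib.isIso_restrict_of_le b (U := punct hx) fun y hy hy' =>
        Set.disjoint_left.1 hU hy ((Set.mem_singleton_iff.1 hy').symm ▸ hxI)
      haveI : IsIso (g ∣_ b ⁻¹ᵁ U) := hiso _ (Set.disjoint_left.2 fun z hz hz' => Set.disjoint_left.1 hU hz (hsub hz'))
      rw [morphismRestrict_comp]
      infer_instance
    · rw [Scheme.IdealSheafData.comap_comp, hI', BlowUpLib.comap_mul, comap_pow]
      exact AlgSpRegLib.isEffCartier_mul hI'g (isEffCartier_pow (hD _ hb.1) d)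
    · rw [Scheme.IdealSheafData.comap_comp]
      exact hD _ (BlowUpLib.isEffCartier_comap hb hD')

/-- **Principalization**: an ideal with finite support in regular surface points becomes invertible after point blow-ups. -/
theorem principalize {X : Scheme.{u}} [IsNoetherian X] (I : X.IdealSheafData) (hf : (I.support : Set X).Finite)
    (h : ∀ x ∈ (I.support : Set X), RegTwo X x) : ∃ (X' : Scheme.{u}) (g : X' ⟶ X), Resolves I g := by
  have hne : ∑ y ∈ hf.toFinset, colen I y ≠ ⊤ := WithTop.sum_ne_top.2 fun y hy =>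
    colen_ne_top I y fun y' hy' hsp => (Set.mem_singleton_iff.1 (hsp.mem_closed (h y' hy').1 rfl)).symm
  obtain ⟨n, hn⟩ := ENat.ne_top_iff_exists.1 hne
  exact principalize_aux n X I hf h hn.symm.le

theorem Resolves.contractionSeq {X : Scheme.{u}} {I : X.IdealSheafData} {X' : Scheme.{u}} {g : X' ⟶ X}
    (h : Resolves I g) : Models.IsContractionSeq g := by
  simpa using h.1 (𝟙 X) (Models.IsContractionSeq.iso (Iso.refl X))

end PtBlowLib
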