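import Mathlib
import Groth.Agent.SDivLib.Divisor
import Groth.Agent.DimIneqLib.Dim
import Groth.Agent.RegUFDLib.Basic
import Groth.Agent.CommAlgDim.RegularRing
import Groth.Agent.NagataFG.Closure
import Groth.Agent.EffCartLib.Basic
import Groth.Agent.S1684
import Groth.Agent.AlgSpRegLib.CartierMul
import Groth.Agent.PtBlowLib.Stalk

/-! The divisorial part of an ideal on a regular surface. -/

set_option autoImplicit false
set_option linter.style.haveILetI false
universe u

open CategoryTheory AlgebraicGeometry TopologicalSpace IntMult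

namespace PtBlowLib

theorem isClosed_of_two_le {X : Scheme.{u}} (hdim : topologicalKrullDim X ≤ 2) (z : X)
    (hz : (2 : WithBot ℕ∞) ≤ ringKrullDim (X.presheaf.stalk z)) : IsClosed ({z} : Set X) := by
  refine closure_subset_iff_isClosed.1 fun y hy => ?_
  by_contra hne
  have hlt : y < z := lt_of_le_not_ge (specializes_iff_mem_closure.2 hy) fun h =>
    hne (((specializes_iff_mem_closure.2 hy).antisymm h).eq.symm)
  have h2 : ((2 : ℕ∞) : WithBot ℕ∞) ≤ (Order.coheight z : WithBot ℕ∞) := by
    rw [← ringKrullDim_stalk_eq_coheight]; exact hz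
  have h3 : (Order.coheight y : WithBot ℕ∞) ≤ ((2 : ℕ∞) : WithBot ℕ∞) := by
    rw [← ringKrullDim_stalk_eq_coheight]
    exact (DimIneqLib.stalk_dim_le_dim y).trans hdim
  have h4 := (Order.coheight_add_one_le hlt).trans (WithBot.coe_le_coe.1 h3)
  have h5 := (add_le_add (WithBot.coe_le_coe.1 h2) le_rfl).trans h4
  exact absurd h5 (by decide)

theorem finite_of_closedPoints {X : Scheme.{u}} [IsNoetherian X] {C : Set X} (hC : IsClosed C)
    (h : ∀ z ∈ C, IsClosed ({z} : Set X)) : C.Finite := by
  obtain ⟨S, hS, hScl, hSir, rfl⟩ := NoetherianSpace.exists_finite_set_isClosed_irreducible hC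
  refine hS.sUnion fun t ht => Set.Subsingleton.finite ?_
  obtain ⟨η, hη⟩ := QuasiSober.sober (hSir t ht) (hScl t ht)
  have : t = {η} := hη.def.symm.trans (h η ⟨t, ht, hη.mem⟩).closure_eq
  rw [this]
  exact Set.subsingleton_singleton

/-- An ideal on a regular integral surface is a divisor times an ideal with finite support. -/
theorem exists_divisorial_part {X : Scheme.{u}} [IsIntegral X] [IsNoetherian X]
    (hreg : ∀ x : X, IsRegularLocalRing (X.presheaf.stalk x)) (hdim : topologicalKrullDim X ≤ 2)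
    (I : X.IdealSheafData) (hI : genericPoint X ∉ I.support) :
    ∃ (I' C : X.IdealSheafData), BlowUp.IsEffCartierIdeal C ∧ I = I' * C ∧ (I'.support : Set X).Finite ∧
      ∀ x ∈ (I'.support : Set X), IsClosed ({x} : Set X) ∧ ringKrullDim (X.presheaf.stalk x) = 2 := by
  classical
  have hle2 : ∀ z : X, ringKrullDim (X.presheaf.stalk z) ≤ 2 := fun z => (DimIneqLib.stalk_dim_le_dim z).trans hdim
  have hge1 : ∀ z ∈ (I.support : Set X), (1 : WithBot ℕ∞) ≤ ringKrullDim (X.presheaf.stalk z) := fun z hz => by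
    rw [ringKrullDim_stalk_eq_coheight]
    refine WithBot.coe_le_coe.2 (Order.one_le_iff_pos.2 (Order.coheight_pos.2 fun h => hI ?_))
    have : z ≤ genericPoint X := genericPoint_specializes z
    exact ((Specializes.antisymm (genericPoint_specializes z) (h this)).eq).symm ▸ hz
  let ι := {p : X // p ∈ (I.support : Set X) ∧ ringKrullDim (X.presheaf.stalk p) = 1}
  let 𝓓 : ι → X.IdealSheafData := fun p => IntMult.ptIdeal p.1
  have hint : ∀ p, IsIntegral (𝓓 p).subscheme := fun p => NagataFG.isIntegral_closure p.1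
  have hD : ∀ p, BlowUp.IsEffCartierIdeal (𝓓 p) := fun p => by
    haveI := hint p
    refine Groth.Agent.S1684.result X (𝓓 p) ?_ fun x _ => ?_
    · have hgen : (𝓓 p).subschemeι (genericPoint (𝓓 p).subscheme) = p.1 := by
        have h1 : IsGenericPoint ((𝓓 p).subschemeι (genericPoint (𝓓 p).subscheme)) (closure ({p.1} : Set X)) := by
          have := (genericPoint_spec (𝓓 p).subscheme).image (𝓓 p).subschemeι.continuous
          rw [Set.image_univ, Scheme.IdealSheafData.range_subschemeι,
            show ((𝓓 p).support : Set X) = closure {p.1} from Scheme.IdealSheafData.coe_support_vanishingIdeal _,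
            closure_closure] at this
          exact this
        exact h1.eq (isGenericPoint_closure)
      rw [hgen]
      exact p.2.2
    · haveI := hreg x
      exact ⟨CommAlgDim.isDomain_of_isRegularLocalRing _, RegUFDLib.uniqueFactorizationMonoid _⟩
  have hsupp : ∀ p : ι, ((𝓓 p).support : Set X) = closure {p.1} := fun p =>
    Scheme.IdealSheafData.coe_support_vanishingIdeal _
  -- the isolated points
  let Z' : Set X := {z | z ∈ (I.support : Set X) ∧ ringKrullDim (X.presheaf.stalk z) = 2 ∧
    ∀ y ∈ (I.support : Set X), y ⤳ z → y = z}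
  have hZf : Z'.Finite := by
    obtain ⟨S, hS, hScl, hSir, hSeq⟩ := NoetherianSpace.exists_finite_set_isClosed_irreducible I.support.isClosed
    refine (hS.biUnion fun t ht => Set.Subsingleton.finite (s := {z : X | IsGenericPoint z t}) fun a ha b hb =>
      ha.eq hb).subset ?_
    rintro z ⟨hz, -, hmax⟩
    obtain ⟨t, ht, hzt⟩ : z ∈ ⋃₀ S := hSeq ▸ hz
    obtain ⟨η, hη⟩ := QuasiSober.sober (hSir t ht) (hScl t ht)
    have : η = z := hmax η (hSeq.symm ▸ ⟨t, ht, hη.mem⟩) (hη.specializes hzt)
    exact Set.mem_iUnion₂.2 ⟨t, ht, this ▸ hη⟩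
  have hZc : IsClosed Z' := by
    rw [← Set.biUnion_of_singleton Z']
    exact hZf.isClosed_biUnion fun z hz => isClosed_of_two_le hdim z hz.2.1.ge
  have hcover : (I.support : Set X) ⊆ Z' ∪ ⋃ i, ((𝓓 i).support : Set X) := fun z hz => by
    obtain ⟨S, hS, hScl, hSir, hSeq⟩ := NoetherianSpace.exists_finite_set_isClosed_irreducible I.support.isClosed
    have hz' := hz
    rw [hSeq] at hz'
    obtain ⟨t, ht, hzt⟩ := hz'
    obtain ⟨η, hη⟩ := QuasiSober.sober (hSir t ht) (hScl t ht)
    have hηI : η ∈ (I.support : Set X) := hSeq ▸ ⟨t, ht, hη.mem⟩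
    rcases (hle2 η).lt_or_eq with h | h
    · refine Or.inr (Set.mem_iUnion.2 ⟨⟨η, hηI, le_antisymm ?_ (hge1 η hηI)⟩, ?_⟩)
      · have h' := h
        rw [ringKrullDim_stalk_eq_coheight] at h' ⊢
        exact WithBot.coe_le_coe.2 (Order.le_of_lt_succ (by
          rw [Order.succ_eq_add_one, one_add_one_eq_two]; exact WithBot.coe_lt_coe.1 h'))
      · rw [hsupp]
        exact (hη.specializes hzt).mem_closure
    · have hcl := isClosed_of_two_le hdim η h.ge
      have hzη : z = η := Set.mem_singleton_iff.1 (hcl.closure_eq.le (hη.specializes hzt).mem_closure)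
      subst hzη
      by_cases hmax : ∀ y ∈ (I.support : Set X), y ⤳ z → y = z
      · exact Or.inl ⟨hz, h, hmax⟩
      · push Not at hmax
        obtain ⟨y, hy, hyz, hne⟩ := hmax
        refine Or.inr (Set.mem_iUnion.2 ⟨⟨y, hy, le_antisymm ?_ (hge1 y hy)⟩, ?_⟩)
        · have hlt : z < y := lt_of_le_not_ge hyz fun h' => hne (hyz.antisymm h').eq
          have h4 := Order.coheight_add_one_le hlt
          rw [ringKrullDim_stalk_eq_coheight] at h ⊢
          refine WithBot.coe_le_coe.2 ((ENat.add_le_add_iff_right ENat.one_ne_top).1 ?_)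
          exact h4.trans_eq ((WithBot.coe_inj.1 h).trans one_add_one_eq_two.symm)
        · rw [hsupp]
          exact hyz.mem_closure
  obtain ⟨a, hle, heq⟩ := SDivLib.exists_divisorial 𝓓 I hD Z' hZc
    (fun z hz _ => hz.2.1.ge) hcover hint
  have hC : BlowUp.IsEffCartierIdeal (a.prod fun i n => 𝓓 i ^ n) := by
    refine Finset.prod_induction _ BlowUp.IsEffCartierIdeal (fun _ _ => AlgSpRegLib.isEffCartier_mul) ?_ fun i _ => ?_
    · rw [Scheme.IdealSheafData.one_eq_top]; exact EffCartLib.isEffCartier_top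
    · show BlowUp.IsEffCartierIdeal (𝓓 i ^ a i)
      induction a i with
      | zero => rw [pow_zero, Scheme.IdealSheafData.one_eq_top]; exact EffCartLib.isEffCartier_top
      | succ m ih => rw [pow_succ]; exact AlgSpRegLib.isEffCartier_mul ih (hD i)
  obtain ⟨I', hI'⟩ := exists_mul_eq hC hle
  have hsub : (I'.support : Set X) ⊆ I.support := Scheme.IdealSheafData.support_antitone fun U => by
    rw [hI', Scheme.IdealSheafData.ideal_mul, Pi.mul_apply]
    exact Ideal.mul_le_left
  have htwo : ∀ x ∈ (I'.support : Set X), ringKrullDim (X.presheaf.stalk x) = 2 := fun x hx => by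
    refine (hle2 x).eq_of_not_lt fun h => ?_
    have h1 : ringKrullDim (X.presheaf.stalk x) ≤ 1 := by
      rw [ringKrullDim_stalk_eq_coheight] at h ⊢
      exact WithBot.coe_le_coe.2 (Order.le_of_lt_succ (by
        rw [Order.succ_eq_add_one, one_add_one_eq_two]; exact WithBot.coe_lt_coe.1 h))
    have h2 := heq x (hsub hx) h1
    obtain ⟨c, hc, hCc⟩ := SDivLib.exists_gen hC x
    haveI := hreg x
    haveI : IsDomain (X.presheaf.stalk x) := CommAlgDim.isDomain_of_isRegularLocalRing _
    refine (SDivLib.mem_support_iff_stalk I' x).1 hx ?_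
    have h3 : IntMult.stalkIdeal I' x * Ideal.span {c} = Ideal.span {c} := by
      rw [← hCc, ← SDivLib.stalkIdeal_mul, ← hI', h2]
    have h4 : c ∈ IntMult.stalkIdeal I' x * Ideal.span {c} := h3.symm ▸ Ideal.mem_span_singleton_self c
    obtain ⟨s, hs, hsc⟩ := Ideal.mem_mul_span_singleton.1 h4
    refine (Ideal.eq_top_iff_one _).2 ?_
    rwa [mul_right_cancel₀ (nonZeroDivisors.ne_zero hc) (hsc.trans (one_mul c).symm)] at hs
  have hcl : ∀ x ∈ (I'.support : Set X), IsClosed ({x} : Set X) := fun x hx => isClosed_of_two_le hdim x (htwo x hx).ge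
  exact ⟨I', _, hC, hI', finite_of_closedPoints I'.support.isClosed hcl, fun x hx => ⟨hcl x hx, htwo x hx⟩⟩

end PtBlowLib
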