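import Mathlib
import Groth.Agent.BlowRegLib.ExcCurve
import Groth.Agent.BlowRegLib.Global
import Groth.Agent.SerreVanLib.Main
import Groth.Agent.FibVanLib.General
import Groth.Agent.RuledSurfLib.Push

/-! Vanishing of the first cohomology along sequences of contractions. -/

set_option autoImplicit false
set_option linter.style.haveILetI false
set_option backward.isDefEq.respectTransparency false
set_option backward.isDefEq.respectTransparency.types false
universe u

open CategoryTheory CategoryTheory.Limits AlgebraicGeometry TopologicalSpace BlowRegLib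
open KFlatLib (pb)

namespace PtBlowLib

/-- Cohomology of the structure sheaf through a morphism without higher direct images. -/
theorem subsingleton_HH_of_unitToPush {Y Z : Scheme.{u}} (b : Y ⟶ Z) [IsIso (ClSub.unitToPush b)]
    (hR : ∀ p, 0 < p → IsZero ((Coh.Rpush b p).obj (Coh.structureModule Y))) (i : ℕ)
    (h : Subsingleton (Coh.HH Z (Coh.structureModule Z) i)) : Subsingleton (Coh.HH Y (Coh.structureModule Y) i) := by
  obtain ⟨Δ, -⟩ := CohCmpLib.exists_sectCmp b
  obtain ⟨e, -⟩ := AVIndexLib.exists_leray_zero Δ i (Coh.structureModule Y) hR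
  haveI := CohCmpLib.preservesFiniteLimits_push (f := b)
  have h' : Subsingleton (Coh.HH Z ((Coh.Rpush b 0).obj (Coh.structureModule Y)) i) :=
    SerreVanLib.subsingleton_HH_of_iso
      ((Scheme.Modules.pushforward b).rightDerivedZeroIsoSelf.app (Coh.structureModule Y) ≪≫ (asIso (ClSub.unitToPush b)).symm) i h
  exact @Equiv.subsingleton _ _ e.toEquiv h'

theorem vanish_of_contractionSeq {Y X : Scheme.{u}} (g : Y ⟶ X) (h : Models.IsContractionSeq g) :
    IsIntegral X → Subsingleton (Coh.HH X (Coh.structureModule X) 1) →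
      IsIntegral Y ∧ Subsingleton (Coh.HH Y (Coh.structureModule Y) 1) := by
  induction h with
  | @iso Y X e =>
    intro hX hH
    haveI := hX
    haveI : Nonempty Y := ⟨e.inv (genericPoint X)⟩
    haveI : Coh.IsQCoh (Coh.structureModule Y) := QCohLib.isQCoh_unit
    refine ⟨isIntegral_of_isOpenImmersion e.hom, ?_⟩
    haveI : IsIso (ClSub.unitToPush e.hom) := CohCmpLib.isIso_unitToPush_of_app e.hom fun U => inferInstance
    obtain ⟨e'⟩ := QCohLib.nonempty_HH_push e.hom (Coh.structureModule Y) 1
    exact @Equiv.subsingleton _ _ e'.toEquiv (SerreVanLib.subsingleton_HH_of_iso (asIso (ClSub.unitToPush e.hom)).symm 1 hH)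
  | @step Y Z X E ι b r hι hE hb hr ih =>
    intro hX hH
    obtain ⟨hZint, hZH⟩ := ih hX hH
    haveI := hZint
    haveI := hι
    haveI := hb.1
    haveI := hb.2.1
    haveI : IsNoetherian Y := {
      toIsLocallyNoetherian := LocallyOfFiniteType.isLocallyNoetherian b
      toCompactSpace := QuasiCompact.compactSpace_of_compactSpace b }
    obtain ⟨-, -, -, y, hy, hreg, hdim, hbl, hlr, -, -, -⟩ := contraction_data ι hE b hb
    have hne : Scheme.IdealSheafData.vanishingIdeal (⟨{y}, hy⟩ : Closeds Z) ≠ ⊥ := fun h => by
      have h1 : genericPoint Z ∈ ((Scheme.IdealSheafData.vanishingIdeal (⟨{y}, hy⟩ : Closeds Z)).support : Set Z) := by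
        rw [h, Scheme.IdealSheafData.support_bot]; trivial
      rw [Scheme.IdealSheafData.coe_support_vanishingIdeal] at h1
      have h3 : ∀ z : Z, z = genericPoint Z → ringKrullDim (Z.presheaf.stalk z) = 0 := by
        rintro z rfl
        exact ringKrullDim_eq_zero_of_field Z.functionField
      have h2 := h3 y (Set.mem_singleton_iff.1 h1).symm
      rw [hdim] at h2
      exact absurd h2 (by norm_num)
    obtain ⟨hYint, -, -⟩ := BlowUpLib.isIntegral_of_isBlowUp hbl hne
    refine ⟨hYint, ?_⟩
    haveI := isIso_unitToPush hbl hlr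
    have hfree : FlatMod.IsFinLocFree (Coh.structureModule Z) :=
      AmpleDevLib.isFinLocFree_of_isInvertible CurvLib.isInvertible_structureModule
    refine subsingleton_HH_of_unitToPush b (fun p hp => ?_) 1 hZH
    obtain ⟨e⟩ := RpushLib.nonempty_toAb_rpush_iso b (pb b (Coh.structureModule Z)) p
    have hz : IsZero ((QCohLib.toAbF Z).obj ((Coh.Rpush b p).obj (pb b (Coh.structureModule Z)))) :=
      (isZero_pullback hbl hlr hfree p hp).of_iso e
    exact ((IsZero.iff_id_eq_zero _).2 ((QCohLib.toAbF Z).map_injective (hz.eq_of_src _ _))).of_iso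
      ((Coh.Rpush b p).mapIso (KFlatLib.pullUnitIso b).symm)

end PtBlowLib

namespace ModifLib

theorem isProper_of_contractionSeq {Y X : AlgebraicGeometry.Scheme.{u}} (g : Y ⟶ X)
    (h : Models.IsContractionSeq g) : AlgebraicGeometry.IsProper g := by
  induction h with
  | iso e => infer_instance
  | step ι b r hι hE hb hr ih =>
    haveI := hb.2.1
    haveI := ih
    infer_instance

end ModifLib
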