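import Mathlib
import Groth.Prelude.Def_FEt
import Groth.Agent.S11555
import Groth.Agent.ModifLib.Basic
import Groth.Agent.ModifLib.Join
import Groth.Agent.ParaFLib.Normal

/-! Modifications of normal surface germs are isomorphisms over the punctured spectrum. -/

set_option autoImplicit false
set_option linter.style.haveILetI false
set_option backward.isDefEq.respectTransparency false
set_option backward.isDefEq.respectTransparency.types false
universe u

open CategoryTheory CategoryTheory.Limits AlgebraicGeometry TopologicalSpace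

namespace PtBlowLib

theorem isIso_punctured {A : Type u} [CommRing A] [IsDomain A] [IsLocalRing A] [IsNoetherianRing A]
    [IsIntegrallyClosed A] (hdim : ringKrullDim A = 2) {X : Scheme.{u}} (f : X ⟶ Spec (CommRingCat.of A))
    [IsProper f] [IsIntegral X] {V₀ : (Spec (CommRingCat.of A)).Opens}
    (hV₀ : (V₀ : Set (Spec (CommRingCat.of A))).Nonempty) [IsIso (f ∣_ V₀)] :
    IsIso (f ∣_ FEt.puncturedSpec A) := by
  let S := Spec (CommRingCat.of A)
  haveI : IsIso (f.stalkMap (genericPoint X)) := ModifLib.isIso_stalkMap_genericPoint f hV₀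
  obtain ⟨V, hV, -, h2⟩ := Groth.Agent.S11555.result f (ParaFLib.isNormal_spec A) (ModifLib.map_genericPoint f hV₀)
    (ConcreteCategory.bijective_of_isIso (f.stalkMap (genericPoint X)))
  haveI := hV
  have e0 : S.presheaf.stalk (IsLocalRing.closedPoint A) ≅ CommRingCat.of A := stalkClosedPointIso (CommRingCat.of A)
  let m : S := IsLocalRing.closedPoint A
  have hdm : ringKrullDim (S.presheaf.stalk m) = 2 :=
    (ringKrullDim_eq_of_ringEquiv e0.commRingCatIsoToRingEquiv).trans hdim
  refine ModifLib.isIso_restrict_of_le f (U := V) fun p hp => ?_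
  by_contra hpV
  have hpm : (p : S) ⤳ m := IsLocalRing.specializes_closedPoint (R := A) p
  have hlt : m < p := lt_of_le_not_ge hpm fun h =>
    hp (Set.mem_singleton_iff.2 ((show m ⤳ p from h).antisymm hpm).eq.symm)
  have h4 := Order.coheight_add_one_le hlt
  have h5 := h2 p hpV
  rw [ringKrullDim_stalk_eq_coheight] at h5 hdm
  rw [WithBot.coe_inj.1 hdm] at h4
  have h6 := (add_le_add (WithBot.coe_le_coe.1 h5) le_rfl).trans h4
  exact absurd h6 (by decide)

theorem punctured_nonempty {A : Type u} [CommRing A] [IsDomain A] [IsLocalRing A] (hdim : ringKrullDim A = 2) :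
    (FEt.puncturedSpec A : Set (Spec (CommRingCat.of A))).Nonempty := by
  refine ⟨(⟨⊥, Ideal.isPrime_bot⟩ : PrimeSpectrum A), fun h => ?_⟩
  have h0 : (⊥ : Ideal A) = IsLocalRing.maximalIdeal A := congrArg PrimeSpectrum.asIdeal (Set.mem_singleton_iff.1 h)
  have := ringKrullDim_eq_zero_of_isField (IsLocalRing.isField_iff_maximalIdeal_eq.mpr h0.symm)
  rw [hdim] at this
  exact absurd this (by norm_num)

/-- A flat scheme over an integral scheme which is integral over a non-empty open is integral. -/
theorem isIntegral_of_flat_open {Z X : Scheme.{u}} (q : Z ⟶ X) [Flat q] [IsIntegral X] (U' : X.Opens)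
    (hU' : (U' : Set X).Nonempty) [IsIntegral (q ⁻¹ᵁ U' : Scheme.{u})] : IsIntegral Z := by
  have hgen : genericPoint X ∈ U' := ((genericPoint_spec X).mem_open_set_iff U'.2).2 (by simpa using hU')
  let ξ : Z := (q ⁻¹ᵁ U').ι (genericPoint ↥(q ⁻¹ᵁ U').toScheme)
  have hξ : ∀ z : Z, ξ ⤳ z := fun z => by
    obtain ⟨z', hz', hqz'⟩ := Flat.generalizingMap q (genericPoint_specializes (q z))
    have hz'U : z' ∈ q ⁻¹ᵁ U' := show q z' ∈ U' by rw [hqz']; exact hgen
    exact ((genericPoint_specializes (α := ↥(q ⁻¹ᵁ U').toScheme) ⟨z', hz'U⟩).map (q ⁻¹ᵁ U').ι.continuous).trans hz'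
  haveI : IrreducibleSpace Z := {
    isPreirreducible_univ := by
      have : closure {ξ} = Set.univ := Set.eq_univ_of_forall fun z => specializes_iff_mem_closure.1 (hξ z)
      exact this ▸ (isIrreducible_singleton.closure).2
    toNonempty := ⟨ξ⟩ }
  haveI : IsReduced Z := by
    refine @isReduced_of_isReduced_stalk _ fun z => ⟨fun s hs => ?_⟩
    obtain ⟨V, hV, hzV, -⟩ := exists_isAffineOpen_mem_and_subset (x := q z) (U := ⊤) trivial
    obtain ⟨W, hW, hzW, hWV⟩ := exists_isAffineOpen_mem_and_subset (x := z) (U := q ⁻¹ᵁ V) hzV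
    letI := Z.presheaf.algebra_section_stalk (⟨z, hzW⟩ : W)
    haveI := hW.isLocalization_stalk ⟨z, hzW⟩
    haveI : Nonempty V := ⟨⟨q z, hzV⟩⟩
    have hgV : genericPoint X ∈ V := ((genericPoint_spec X).mem_open_set_iff V.2).2 ⟨q z, trivial, hzV⟩
    obtain ⟨a, haU, hga⟩ := hV.exists_basicOpen_le (⟨genericPoint X, hgen⟩ : U') hgV
    have ha0 : a ≠ 0 := fun h => by
      subst h
      rw [Scheme.basicOpen_zero] at hga
      exact hga
    let φ := (q.appLE V W hWV).hom
    have hreg : ∀ r : Γ(Z, W), φ a * r = 0 → r = 0 := by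
      letI := φ.toAlgebra
      haveI : Module.Flat Γ(X, V) Γ(Z, W) := q.flat_appLE hV hW hWV
      intro r hr
      have h := IsSMulRegular.of_flat (S := Γ(Z, W)) (x := a) (fun u v huv => mul_left_cancel₀ ha0 huv)
      exact h (show φ a * r = φ a * 0 by rw [hr, mul_zero])
    haveI : _root_.IsReduced Γ(Z, W) := ⟨fun r hr => by
      let D := Z.basicOpen (φ a)
      have hD : D ≤ q ⁻¹ᵁ U' := by
        show Z.basicOpen ((q.appLE V W hWV).hom a) ≤ _
        rw [Scheme.basicOpen_appLE]
        exact inf_le_right.trans (q.preimage_mono haU)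
      haveI : IsReduced (D : Scheme.{u}) := isReduced_of_isOpenImmersion (Z.homOfLE hD)
      haveI : _root_.IsReduced Γ(Z, D) :=
        isReduced_of_injective D.topIso.inv.hom (ConcreteCategory.bijective_of_isIso D.topIso.inv).1
      haveI := hW.isLocalization_basicOpen (φ a)
      have h0 : algebraMap Γ(Z, W) Γ(Z, D) r = 0 := (hr.map (algebraMap Γ(Z, W) Γ(Z, D))).eq_zero
      obtain ⟨⟨c, m, rfl⟩, hc⟩ := (IsLocalization.map_eq_zero_iff (Submonoid.powers (φ a)) Γ(Z, D) r).1 h0
      clear h0
      induction m with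
      | zero => simpa using hc
      | succ m ih =>
        refine ih (hreg _ ?_)
        rw [← mul_assoc, ← pow_succ']
        exact hc⟩
    haveI : _root_.IsReduced (Z.presheaf.stalk z) :=
      isReduced_localizationPreserves (hW.primeIdealOf ⟨z, hzW⟩).asIdeal.primeCompl _ inferInstance
    exact hs.eq_zero
  exact isIntegral_of_irreducibleSpace_of_isReduced Z

end PtBlowLib
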